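import Cfsg.Agent.Lib.ABG.U.Reg
import Cfsg.Agent.Lib.ABG.U.SE

/-! Fusion of involutions, and the case of a centre `W` that is not a `2`-group. -/

set_option autoImplicit false
set_option linter.style.haveILetI false
set_option linter.unusedSectionVars false

namespace H73.U

open Subgroup H45 H69 Cfsg H29

universe v

variable {G : Type v} [Group G] [Finite G]

omit [Finite G] in
theorem mc {x y : G} (h : y ∈ 𝐂[x]) : y * x = x * y := mem_cent1_iff.1 h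

omit [Finite G] in
theorem cm {x y : G} (h : y * x = x * y) : y ∈ 𝐂[x] := mem_cent1_iff.2 h

omit [Finite G] in
theorem cj_le_of {A B : Subgroup G} {g : G} (h : ∀ a ∈ A, g * a * g⁻¹ ∈ B) : A ^ᶜ g ≤ B :=
  fun x hx => by
    obtain ⟨a, ha, rfl⟩ := mem_cj'.1 hx
    exact h a ha

theorem conj_into {A L : Subgroup G} {r : ℕ} (hr : r.Prime) (hA : A ≤ L) (hi : ¬ r ∣ A.relIndex L)
    {x : G} (hx : x ∈ L) (ho : orderOf x = r) : ∃ c ∈ L, c * x * c⁻¹ ∈ A := by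
  haveI := Fact.mk hr
  obtain ⟨S, hS⟩ := exists_isSylowIn r A
  obtain ⟨c, hc, e⟩ := (hS.trans_of_not_dvd hA hi).exists_cj_le
    (isPGroup_of_card_eq ((Nat.card_zpowers x).trans ho)) (zpowers_le.2 hx)
  exact ⟨c, hc, hS.le (e (cj_mem c (mem_zpowers x)))⟩

theorem relIndex_eq {A L : Subgroup G} (hA : A ≤ L) {n : ℕ} (h : Nat.card L = Nat.card A * n) :
    A.relIndex L = n := by
  have e := relIndex_mul_relIndex ⊥ A L bot_le hA
  rw [relIndex_bot_left, relIndex_bot_left, h] at e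
  exact Nat.eq_of_mul_eq_mul_left Nat.card_pos e

theorem eq_one_of_odd {x : G} (ho : Odd (orderOf x)) (h : x * x = 1) : x = 1 :=
  mem_bot.1 (mem_of_pow_mem (n := 2) (by rw [sq, h]; exact one_mem _) (Nat.coprime_two_left.2 ho))

omit [Finite G] in
theorem conj_cent {a b g x : G} (h : g * a * g⁻¹ = b) : g * x * g⁻¹ ∈ 𝐂[b] ↔ x ∈ 𝐂[a] := by
  rw [← h, ← cj_centralizer_singleton, cj_mem_iff]

omit [Finite G] in
theorem conj_cent' {a b g x : G} (h : g * a * g⁻¹ = b) : g⁻¹ * x * g ∈ 𝐂[a] ↔ x ∈ 𝐂[b] := by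
  rw [← h, ← cj_centralizer_singleton, mem_cj]

theorem UA.idxH {p q : ℕ} {z u : G} {W P H : Subgroup G} (h : UA p q z u W P H) :
    H.relIndex 𝐂[z] = q * (q + 1) := relIndex_eq h.HC (h.cardC.trans (mul_comm _ _))

namespace UC

variable {p q : ℕ} {z u s : G} {W P H T : Subgroup G} (h : UC p q z u s W P H T)
include h

theorem TC : T ≤ 𝐂[z] := fun t ht => ((h.memT t).1 ht).1

theorem TU : T ≤ 𝐂[u] := fun t ht => cm ((h.memT t).1 ht).2

theorem mem_T {g : G} (h1 : g ∈ 𝐂[z]) (h2 : g ∈ 𝐂[u]) : g ∈ T := (h.memT g).2 ⟨h1, mc h2⟩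

theorem WT : W ≤ T := fun w hw => h.mem_T (h.HC (h.WH hw)) (cm (h.Wc w hw u h.uC))

theorem uT : u ∈ T := h.mem_T h.uC (self_mem_cent1 u)

theorem T_comm {a b : G} (ha : a ∈ T) (hb : b ∈ T) : a * b = b * a :=
  h.ca u h.uC h.uW a (h.TC ha) b (h.TC hb) (mc (h.TU ha)) (mc (h.TU hb))

theorem idxT : T.relIndex 𝐂[z] = q * (q - 1) :=
  relIndex_eq h.TC (by rw [h.cardC, h.cardH, h.cardT]; ring)

theorem s_inv : s⁻¹ = s := inv_eq_of_mul_eq_one_right h.ss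

theorem cent_le_T {y : G} (hy : y ∈ T) (hW : y ∉ W) : 𝐂[y] ⊓ 𝐂[z] ≤ T := fun g hg =>
  h.mem_T hg.2 (cm (h.ca y (h.TC hy) hW g hg.2 u h.uC (mc hg.1) (mc (h.TU hy)).symm))

theorem invol_C {v : G} (hv : v ∈ 𝐂[z]) (v2 : orderOf v = 2) :
    v = z ∨ ∃ c ∈ 𝐂[z], c * v * c⁻¹ = u := by
  have := H9.mul_self_of_orderOf_two v2
  by_cases m : v ∈ W
  · exact .inl ((h.invol_H (h.WH m) this).resolve_left (H9.ne_one_of_orderOf_two v2))
  · exact .inr (h.inv v hv this m)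

theorem odd_index : Odd (𝐂[z] : Subgroup G).index := by
  obtain ⟨S, hS, hz⟩ := exists_isSylowIn_le (H9.isPGroup_zpowers_of_mul_self h.zz)
    (zpowers_le.2 (self_mem_cent1 z))
  replace hz := zpowers_le.1 hz
  have : Syl 2 S ⊤ := isSylowIn_of_normalizer le_top (hS.mono (le_inf le_top le_normalizer) ?_)
  · exact Nat.odd_iff.2 (Nat.two_dvd_ne_zero.1
      (relIndex_top_right (𝐂[z] : Subgroup G) ▸ this.not_dvd_relIndex_of_le hS.le le_top))
  rintro g ⟨-, hg⟩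
  obtain e | ⟨c, hc, e⟩ := h.invol_C (hS.le (conj_mem_of_mem_normalizer hg hz))
    ((H9.orderOf_conj g z).trans h.z2)
  · exact cm (mul_inv_eq_iff_eq_mul.1 e)
  · refine ((hS.cj_of_mem hc).not_dvd_relIndex_of_le ?_ h.TC (h.idxT ▸ (even_iff_two_dvd.1
      (Nat.Odd.sub_odd h.q_odd odd_one)).mul_left q)).elim
    refine cj_le_of fun x hx => h.mem_T
      (mul_mem (mul_mem hc (hS.le hx)) (inv_mem hc)) ((conj_cent e).2 ?_)
    exact (conj_cent' rfl).1 (hS.le (by simpa using conj_mem_of_mem_normalizer (inv_mem hg) hx))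

theorem of_s {s₁ : G} (h1 : s₁ ∈ 𝐂[z]) (h2 : s₁ * s₁ = 1) (h3 : s₁ * u * s₁ = u * z) :
    UC p q z u s₁ W P H T := by
  have m : s * s₁ ∈ T := h.mem_T (mul_mem h.sC h1) (cm (by
    calc s * s₁ * u = s * s₁ * u * (s₁ * s₁) := by rw [h2, mul_one]
      _ = s * (s₁ * u * s₁) * s₁ := by group
      _ = (s * s) * u * (s * s₁) := by rw [h3, ← h.su]; group
      _ = _ := by rw [h.ss, one_mul]))
  refine { h with sC := h1, ss := h2, su := h3, sT := fun t ht => ?_ }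
  have e : s₁ * t * s₁ = s * t * s := by
    calc s₁ * t * s₁ = s₁ * (t * (s * s₁)⁻¹) * s * s₁ * s₁ := by group
      _ = s₁ * (s * s₁)⁻¹ * t * s * (s₁ * s₁) := by rw [h.T_comm ht (inv_mem m)]; group
      _ = _ := by rw [h2, mul_inv_rev, h.s_inv]; group
  exact e ▸ h.sT t ht

end UC

namespace UD

variable {p q : ℕ} {z u s : G} {W P H T : Subgroup G} (h : UD p q z u s W P H T)
include h

theorem pair_conj {a b : G} (hp : IsPair a b) : ∃ g, g * z * g⁻¹ = a ∧ g * u * g⁻¹ = b := by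
  obtain ⟨g, e⟩ := h.one a (H9.orderOf_eq_two_of_mul_self hp.ne₁ hp.sq₁)
  obtain e' | ⟨c, hc, e'⟩ := h.invol_C ((conj_cent' e).2 (cm hp.comm.symm))
    ((H9.orderOf_conj' g b).trans (H9.orderOf_eq_two_of_mul_self hp.ne₂ hp.sq₂))
  · exact (hp.ne (by rw [← e, ← e']; group)).elim
  · refine ⟨g * c⁻¹, ?_, by rw [← e']; group⟩
    rw [mul_assoc g, mc (inv_mem hc), ← e]; group

/-- An element of odd order central in the centralizers of two commuting involutions. -/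
theorem eq_one_of_cent [IsSimpleGroup G] {w a : G} (hw : w ∈ W) (ho : Odd (orderOf w))
    (hp : IsPair z a) (hc : 𝐂[a] ≤ 𝐂[w]) : w = 1 := by
  have C1 : 𝐂[z] ≤ 𝐂[w] := fun g hg => cm (h.Wc w hw g hg).symm
  have C2 : 𝐂[u] ≤ 𝐂[w] := fun g hg => by
    obtain e | ⟨c, m, e⟩ := h.invol_C (cm hp.comm.symm)
      (H9.orderOf_eq_two_of_mul_self hp.ne₂ hp.sq₂)
    · exact (hp.ne e.symm).elim
    · simpa [mul_assoc] using
        mul_mem (mul_mem (C1 m) (hc ((conj_cent' e).2 hg))) (inv_mem (C1 m))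
  have : ∃ O : Subgroup G, Odd (Nat.card O) ∧ O ≤ ⊤ ∧ ⊤ ≤ 𝐍(O) ∧ zpowers w ≤ O := by
    have n : 𝐂[w] ≤ 𝐍(zpowers w) := centralizer_zpowers w ▸ centralizer_le_normalizer _
    by_cases t : ⊤ ≤ 𝐂[w]
    · exact ⟨_, by rwa [Nat.card_zpowers], le_top, t.trans n, le_rfl⟩
    refine SE.core (v := z) ⟨le_top, t, h.z2, C1 (self_mem_cent1 z), fun b hb b2 => ?_,
      inf_le_right.trans C1⟩ (zpowers_le_cent1 w) (by rwa [Nat.card_zpowers]) n
    obtain ⟨c, m, e⟩ := conj_into Nat.prime_two C1 (fun d => Nat.not_even_iff_odd.2 h.odd_index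
      (even_iff_two_dvd.2 (d.trans (relIndex_dvd_index_of_le C1)))) hb b2
    obtain e | ⟨d, m', e⟩ := h.invol_C e ((H9.orderOf_conj c b).trans b2)
    · exact ⟨c⁻¹, inv_mem m, by rw [← e]; group⟩
    obtain ⟨σ, a1, a2⟩ := h.pair_conj h.pair.symm
    refine ⟨(d * c)⁻¹ * s * (σ * s * σ⁻¹), mul_mem (mul_mem (inv_mem (mul_mem (C1 m') m))
      (C1 h.sC)) (C2 ((conj_cent a1).2 h.sC)), ?_⟩
    calc _ = (d * c)⁻¹ * s * σ * (s * (σ⁻¹ * z * σ) * s⁻¹) * σ⁻¹ * s⁻¹ * (d * c) := by group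
      _ = (d * c)⁻¹ * s * ((σ * u * σ⁻¹) * (σ * z * σ⁻¹)) * s⁻¹ * (d * c) := by
        rw [show σ⁻¹ * z * σ = u by rw [← a2]; group, h.s_inv, h.su]; group
      _ = (d * c)⁻¹ * (s * z) * u * s⁻¹ * (d * c) := by rw [a1, a2]; group
      _ = (d * c)⁻¹ * (z * (s * u * s)) * (d * c) := by
        rw [mc h.sC, h.s_inv]; group
      _ = b := by rw [h.su, ← mul_assoc z, h.pair.comm, mul_assoc u, h.zz, mul_one, ← e]; group
  obtain ⟨O, h1, -, h2, h3⟩ := this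
  rcases (normalizer_eq_top_iff.1 (top_le_iff.1 h2)).eq_bot_or_eq_top with rfl | rfl
  · exact h3 (mem_zpowers w)
  · exact (h.z1 (eq_one_of_odd (h1.of_dvd_nat (orderOf_dvd_natCard ⊤ trivial)) h.zz)).elim

theorem cent_le_H [IsSimpleGroup G] {w x : G} (hw : w ∈ W) (w1 : w ≠ 1) (ow : Odd (orderOf w))
    (hx : x ∈ H) (h1 : x ≠ 1) (ho : Odd (orderOf x)) (hd : orderOf x ∣ q - 1) : 𝐂[x] ≤ H := by
  obtain ⟨Y, oY, mY, eY, n1, n2, pY⟩ := h.toUB.exists_Y hx h1 ho hd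
  have wY : w ∈ Y := (mY w).2 ⟨eY.le_right (h.WH hw), ow⟩
  have key : ∀ a, IsPair z a → Y ⊓ 𝐂[a] ≤ 𝐂[z] := fun a hp y hy => by
    obtain ⟨σ, a1, a2⟩ := h.pair_conj hp.symm
    have wa : w ∈ 𝐂[a] := cm (h.Wc w hw a (cm hp.comm.symm))
    refine (conj_cent' a2).1 (cm (h.ca _ ((conj_cent' a1).2 wa) (fun m => w1
      (h.eq_one_of_cent hw ow hp fun g hg => (conj_cent' (a := σ⁻¹ * w * σ) (g := σ) (by group)).1
        (cm (h.Wc _ m _ ((conj_cent' a1).2 hg)).symm))) _ ((conj_cent' a1).2 hy.2) u h.uC ?_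
      (mc ((conj_cent' a2).2 (h.HC (h.WH hw)))).symm))
    refine h.ab ((Y ⊓ 𝐂[a]) ^ᶜ σ⁻¹) (cj_le_of fun b hb => by
      simpa using (conj_cent' a1).2 hb.2) ?_ ?_ _ ?_ _ ?_
    · rw [card_cj]; exact oY.of_dvd_nat (card_dvd_of_le inf_le_left)
    · rw [card_cj]; exact fun d => pY (d.trans (card_dvd_of_le inf_le_left))
    · simpa using cj_mem σ⁻¹ hy
    · simpa using cj_mem σ⁻¹ (mem_inf.2 ⟨wY, wa⟩)
  have := gen_four h.pair oY (n1 h.zH) n2 inf_le_right (key u h.pair) 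
    (key _ (h.pair.comm ▸ h.pair.symm.rot))
  intro g hg
  obtain ⟨y, hy, k, hk, rfl⟩ := eY.exists_mul hg
  exact h.cH x hx (h.notMem_W h1 ho hd) _ (mul_mem (this hy) (h.HC hk)) (mc hg)

theorem coprime [IsSimpleGroup G] {w : G} (hw : w ∈ W) (w1 : w ≠ 1) (ow : Odd (orderOf w)) :
    (𝐂[z] : Subgroup G).index.Coprime (q - 1) := by
  refine coprime_iff_forall_prime.2 fun r hr d1 d2 => ?_
  haveI := Fact.mk hr
  have ro : Odd r := h.odd_index.of_dvd_nat d1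
  obtain ⟨R, hR⟩ := exists_isSylowIn r H
  obtain ⟨x, hx, ox⟩ := exists_orderOf_eq_prime hR.isP
    (hR.dvd_card_iff.1 (h.cardH ▸ d2.mul_left _))
  have s1 : Syl r R 𝐂[z] := hR.trans_of_not_dvd h.HC (h.idxH ▸ fun d => by
    have q3 := h.three_le
    rcases (Nat.Prime.dvd_mul hr).1 d with d | d
    · exact hr.not_dvd_one (by simpa [show q - (q - 1) = 1 by omega] using Nat.dvd_sub d d2)
    · exact hr.not_dvd_one ((cop_of_odd (by omega) ro d).eq_one_of_dvd (d2.mul_left 2)).dvd)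
  have : Syl r R ⊤ := isSylowIn_of_normalizer le_top (s1.mono (le_inf le_top le_normalizer) ?_)
  · exact this.not_dvd_relIndex_of_le s1.le le_top (by rwa [relIndex_top_right])
  rintro g ⟨-, hg⟩
  have o := (H9.orderOf_conj g x).trans ox
  exact cm (mul_inv_eq_iff_eq_mul.1 ((h.invol_H (h.cent_le_H hw w1 ow
    (hR.le (conj_mem_of_mem_normalizer hg hx)) (fun e => hr.ne_one (by rw [← o, e, orderOf_one]))
    (o ▸ ro) (o ▸ d2) ((conj_cent rfl).2 (mem_cent1_comm.1 (h.HC (hR.le hx)))))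
    (h.pair.conj g).sq₁).resolve_left (h.pair.conj g).ne₁))

end UD

end H73.U
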