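import Cfsg.Agent.Lib.ABG.U.Irr1

/-! The case of a centre `W` of order two: the centralizer of the odd part `A` of the torus `T`. -/

set_option autoImplicit false
set_option linter.style.haveILetI false
set_option linter.unusedSectionVars false
set_option linter.unusedVariables false

namespace H73.U

open Subgroup H45 H69 Cfsg H29

universe v

variable {G : Type v} [Group G] [Finite G]

/-- The case `W = ⟨z⟩`, `q ≡ 1 mod 4`, with `A` the odd part of `T`. -/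
structure UE (p q : ℕ) (z u s : G) (W P H T A : Subgroup G) : Prop
    extends UD p q z u s W P H T where
  hW : ∀ w ∈ W, w = 1 ∨ w = z
  h4 : q % 4 = 1
  mA : ∀ g, g ∈ A ↔ g ∈ T ∧ Odd (orderOf g)

/-- The subgroup generated by two elements. -/
abbrev Vf (a b : G) : Subgroup G := closure ({a, b} : Set G)

theorem exists_oddPart {T : Subgroup G} (h : ∀ a ∈ T, ∀ b ∈ T, a * b = b * a) :
    ∃ A : Subgroup G, ∀ g, g ∈ A ↔ g ∈ T ∧ Odd (orderOf g) :=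
  ⟨{ carrier := {g | g ∈ T ∧ Odd (orderOf g)}
     one_mem' := ⟨one_mem _, by simp⟩
     mul_mem' := fun {a b} ha hb => ⟨mul_mem ha.1 hb.1, (ha.2.mul hb.2).of_dvd_nat
       (Commute.orderOf_mul_dvd_mul_orderOf (h a ha.1 b hb.1))⟩
     inv_mem' := fun {a} ha => ⟨T.inv_mem ha.1, by simpa using ha.2⟩ }, fun _ => Iff.rfl⟩

theorem odd_of_forall {A : Subgroup G} (h : ∀ a ∈ A, Odd (orderOf a)) : Odd (Nat.card A) := by
  rw [← Nat.not_even_iff_odd, H9.even_card_iff_exists_involution]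
  rintro ⟨t, ht, e⟩
  exact Nat.not_odd_iff_even.2 even_two (e ▸ h t ht)

namespace UE

variable {p q : ℕ} {z u s : G} {W P H T A : Subgroup G} (h : UE p q z u s W P H T A)
include h

theorem cardW' : Nat.card W = 2 := by
  rw [← h.z2, ← Nat.card_zpowers, le_antisymm (zpowers_le.2 h.zW) fun w hw => ?_]
  rcases h.hW w hw with rfl | rfl
  exacts [one_mem _, mem_zpowers _]

theorem AT : A ≤ T := fun a ha => ((h.mA a).1 ha).1

theorem oddA {a : G} (ha : a ∈ A) : Odd (orderOf a) := ((h.mA a).1 ha).2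

theorem zT : z ∈ T := h.WT h.zW

theorem zV : z ∈ Vf z u := subset_closure (by simp)

theorem uV : u ∈ Vf z u := subset_closure (by simp)

theorem VT : Vf z u ≤ T := pair_le h.zT h.uT

theorem T_le_X : T ≤ 𝐂(A) := fun t ht =>
  mem_centralizer_iff_commute.2 fun a ha => h.T_comm (h.AT ha) ht

theorem T_le_N : T ≤ 𝐍(Vf z u) := cents_norm fun t ht =>
  mem_centralizer_iff_commute.2 fun a ha => h.T_comm (h.VT ha) ht

theorem sqV {v : G} (hv : v ∈ Vf z u) : v * v = 1 := by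
  rcases h.pair.mem_closure.1 hv with rfl | rfl | rfl | rfl
  exacts [one_mul 1, h.zz, h.uu, h.pair.rot.sq₂]

theorem decT {t : G} (ht : t ∈ T) : ∃ v ∈ Vf z u, ∃ a ∈ A, t = v * a := by
  obtain ⟨m, hm, e⟩ : ∃ m, Odd m ∧ Nat.card T = 4 * m :=
    ⟨2 * (q / 4) + 1, odd_two_mul_add_one _, by rw [h.cardT, h.cardW']; have := h.h4; omega⟩
  have i2 := H9.isPGroup_closure_pair_of_commute h.zz h.uu h.pair.comm
  have sV : Syl 2 (Vf z u) T := isSylowIn_of_not_dvd_relIndex i2 h.VT (by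
    rw [relIndex_eq h.VT (e.trans (by rw [IsPair.card h.pair]))]
    exact Nat.two_dvd_ne_zero.2 (Nat.odd_iff.1 hm))
  have t1 : t ^ (4 * m) = 1 := orderOf_dvd_iff_pow_eq_one.1 (e ▸ orderOf_dvd_natCard T ht)
  have a : t ^ m ∈ Vf z u := zpowers_le.1 (sV.le_of_le_normalizer' (H9.isPGroup_zpowers_of_pow (a := 2)
    (by rw [← pow_mul, mul_comm]; exact t1)) (zpowers_le.2 (pow_mem ht m))
    (zpowers_le.2 (h.T_le_N (pow_mem ht m))))
  have b : t ^ 4 ∈ A := (h.mA _).2 ⟨pow_mem ht 4, hm.of_dvd_nat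
    (orderOf_dvd_of_pow_eq_one (by rw [← pow_mul]; exact t1))⟩
  obtain ⟨j, rfl⟩ := hm
  exact ⟨_, pow_mem a (2 * j + 1), _, inv_mem (pow_mem b (j * j + j)), by
    rw [← pow_mul, ← pow_mul, eq_mul_inv_iff_mul_eq, ← pow_succ']; congr 1; ring⟩

theorem four_T {t : G} (ht : t ∈ T) (h4 : t * t * (t * t) = 1) : t ∈ Vf z u := by
  obtain ⟨v, hv, a, ha, rfl⟩ := h.decT ht
  have e : v * a * (v * a) = a * a := by
    rw [mul_assoc, ← mul_assoc a, h.T_comm (h.AT ha) (h.VT hv), mul_assoc, ← mul_assoc, h.sqV hv,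
      one_mul]
  rw [e] at h4
  rwa [eq_one_of_odd (h.oddA ha) (eq_one_of_odd (h.oddA (mul_mem ha ha)) h4), mul_one]

theorem invol_T {t : G} (ht : t ∈ T) (h2 : t * t = 1) : t ∈ Vf z u := h.four_T ht (by rw [h2, one_mul])

theorem notMem_W' {y : G} (hy : y ∈ A) (y1 : y ≠ 1) : y ∉ W := fun m =>
  (h.hW y m).elim y1 fun e => y1 (eq_one_of_odd (h.oddA hy) (e ▸ h.zz))

theorem conj_A {g a : G} (hg : ∀ t ∈ T, g * t * g⁻¹ ∈ T) (ha : a ∈ A) : g * a * g⁻¹ ∈ A :=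
  (h.mA _).2 ⟨hg a (h.AT ha), by rw [H9.orderOf_conj]; exact h.oddA ha⟩

theorem s_inverts {a : G} (ha : a ∈ A) : s * a * s⁻¹ = a⁻¹ := by
  have m : s * a * s⁻¹ * a ∈ A := mul_mem (h.conj_A (fun t ht => by
    simpa [h.s_inv] using mul_mem (h.WT (h.sT t ht)) (inv_mem ht)) ha) ha
  exact eq_inv_of_mul_eq_one_left (by_contra fun e => h.notMem_W' m e
    (h.s_inv.symm ▸ h.sT a (h.AT ha)))

theorem exists_rho : ∃ ρ ∈ 𝐂(A), ρ * z * ρ⁻¹ = u ∧ ρ * u * ρ⁻¹ = z * u := by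
  obtain ⟨σ, a1, a2⟩ := h.pair_conj h.pair.symm
  refine ⟨s * (σ * s * σ⁻¹), mem_centralizer_iff_commute.2 fun a ha => ?_, ?_, ?_⟩
  · have m : σ⁻¹ * a * σ⁻¹⁻¹ ∈ A := h.conj_A (fun t ht => h.mem_T
      (by simpa using (conj_cent' a1).2 (h.TU ht)) (by simpa using (conj_cent' a2).2 (h.TC ht))) ha
    rw [eq_comm, ← mul_inv_eq_iff_eq_mul]
    calc _ = s * (σ * (s * (σ⁻¹ * a * σ⁻¹⁻¹) * s⁻¹) * σ⁻¹) * s⁻¹ := by group
      _ = (s * a * s⁻¹)⁻¹ := by rw [h.s_inverts m]; group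
      _ = a := by rw [h.s_inverts ha, inv_inv]
  · calc _ = s * σ * (s * (σ⁻¹ * z * σ) * s⁻¹) * σ⁻¹ * s⁻¹ := by group
      _ = s * ((σ * u * σ⁻¹) * (σ * z * σ⁻¹)) * s⁻¹ := by
        rw [show σ⁻¹ * z * σ = u by rw [← a2]; group, h.s_inv, h.su]; group
      _ = (s * z) * u * s⁻¹ := by rw [a1, a2]; group
      _ = z * (s * u * s) := by rw [mc h.sC, h.s_inv]; group
      _ = u := by rw [h.su, ← mul_assoc z, h.pair.comm, mul_assoc u, h.zz, mul_one]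
  · calc _ = s * (σ * s * σ⁻¹ * u * (σ * s * σ⁻¹)⁻¹) * s⁻¹ := by group
      _ = _ := by
        rw [mc ((conj_cent a1).2 h.sC), mul_inv_cancel_right, h.s_inv, h.su, h.pair.comm]

theorem cent_le {y v : G} (hy : y ∈ A) (y1 : y ≠ 1) (hv : v ∈ Vf z u) (v1 : v ≠ 1) :
    𝐂[y] ⊓ 𝐂[v] ≤ T := by
  obtain ⟨ρ, r, r1, r2⟩ := h.exists_rho
  have r3 : ρ * y * ρ⁻¹ = y := conj_eq_of_mem_centralizer r hy
  have c1 := h.cent_le_T (h.AT hy) (h.notMem_W' hy y1)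
  have e : ∀ g ∈ 𝐂[u], g ∈ 𝐂[z * u] → g ∈ T := fun g a b => h.mem_T (cm (by
    have := mc b
    rwa [mul_assoc, ← mc a, ← mul_assoc, ← mul_assoc, mul_left_inj] at this)) a
  have c2 : 𝐂[y] ⊓ 𝐂[u] ≤ T := fun g hg => e g hg.2 ((conj_cent' r2).1
    (h.TU (c1 ⟨(conj_cent' r3).2 hg.1, (conj_cent' r1).2 hg.2⟩)))
  rcases h.pair.mem_closure.1 hv with rfl | rfl | rfl | rfl
  exacts [(v1 rfl).elim, c1, c2, fun g hg => e g ((conj_cent' r1).1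
    (h.TC (c2 ⟨(conj_cent' r3).2 hg.1, (conj_cent' r2).2 hg.2⟩))) hg.2]

theorem exists_conj_V {v : G} (hv : v ∈ Vf z u) (v1 : v ≠ 1) :
    ∃ m ∈ 𝐂(A) ⊓ 𝐍(Vf z u), m * z * m⁻¹ = v := by
  obtain ⟨ρ, r, r1, r2⟩ := h.exists_rho
  have n : ρ ∈ 𝐂(A) ⊓ 𝐍(Vf z u) := ⟨r, mem_normalizer_of_cj_le (by
    rw [cj_le_iff]
    exact pair_le (by rw [mem_cj, inv_inv, r1]; exact h.uV)
      (by rw [mem_cj, inv_inv, r2]; exact mul_mem h.zV h.uV))⟩
  rcases h.pair.mem_closure.1 hv with rfl | rfl | rfl | rfl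
  exacts [(v1 rfl).elim, ⟨1, one_mem _, by group⟩, ⟨ρ, n, r1⟩,
    ⟨ρ * ρ, mul_mem n n, by rw [← r2, ← r1]; group⟩]

theorem cl {y b : G} (hy : y ∈ A) (y1 : y ≠ 1) {L : Subgroup G} (h1 : 𝐂(A) ⊓ 𝐍(Vf z u) ≤ L)
    (h2 : L ≤ 𝐂[y]) (hb : b ∈ L) (b2 : orderOf b = 2) : ∃ m ∈ L, m * z * m⁻¹ = b := by
  have bb := H9.mul_self_of_orderOf_two b2
  have zL : z ∈ L := h1 ⟨h.T_le_X h.zT, h.T_le_N h.zT⟩
  rcases Nat.even_or_odd (orderOf (z * b)) with e | e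
  · obtain ⟨c1, c2⟩ := H9.pow_half_commute h.zz bb e
    have o := H9.orderOf_pow_half e
    obtain ⟨m, hm, e⟩ := h.exists_conj_V (h.invol_T (h.cent_le hy y1 (h.invol_T
      (h.cent_le hy y1 h.zV h.z1 ⟨h2 (pow_mem (mul_mem zL hb) _), cm c1⟩)
      (H9.mul_self_of_orderOf_two o)) (H9.ne_one_of_orderOf_two o) ⟨h2 hb, cm c2.symm⟩) bb)
      (H9.ne_one_of_orderOf_two b2)
    exact ⟨m, h1 hm, e⟩
  · obtain ⟨k, hk⟩ := H9.exists_pow_conj_of_odd h.zz bb e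
    exact ⟨_, pow_mem (mul_mem zL hb) k, hk⟩

theorem se {y : G} (hy : y ∈ A) (y1 : y ≠ 1) {L : Subgroup G} (h1 : 𝐂(A) ≤ L) (h2 : L ≤ 𝐂[y])
    (hn : ¬ L ≤ 𝐍(Vf z u)) : SE L (L ⊓ 𝐍(Vf z u)) z :=
  ⟨inf_le_left, fun e => hn (e.trans inf_le_right), h.z2, ⟨h1 (h.T_le_X h.zT), h.T_le_N h.zT⟩,
    fun _ ha a2 => h.cl hy y1 (inf_le_inf_right _ h1) (inf_le_left.trans h2) ha a2,
    le_inf inf_le_left (((inf_le_inf_right _ h2).trans (h.cent_le hy y1 h.zV h.z1)).trans h.T_le_N)⟩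

theorem odd_le_T {y : G} (hy : y ∈ A) (y1 : y ≠ 1) {O : Subgroup G} (ho : Odd (Nat.card O))
    (h1 : O ≤ 𝐂[y]) (hn : T ≤ 𝐍(O)) : O ≤ T :=
  have e := fun v a b => (inf_le_inf_right 𝐂[v] h1).trans (h.cent_le hy y1 a b)
  gen_four h.pair ho (hn h.zT) (hn h.uT) (e z h.zV h.z1) (e u h.uV h.u1)
    (e _ (mul_mem h.zV h.uV) h.pair.rot.ne₂)

theorem cent_le_X {y : G} (hy : y ∈ A) (y1 : y ≠ 1) : 𝐂[y] ≤ 𝐂(A) := by
  have key : ∀ g ∈ 𝐂[y], g * z * g⁻¹ ∈ 𝐂(A) → g ∈ 𝐂(A) := fun g hg m => by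
    obtain ⟨c, hc, e⟩ := h.cl hy y1 inf_le_left (cent_le_cent1 hy) m
      ((H9.orderOf_conj g z).trans h.z2)
    refine (mul_mem_cancel_left (inv_mem hc)).1 (h.T_le_X (h.cent_le hy y1 h.zV h.z1
      ⟨mul_mem (Subgroup.inv_mem _ (cent_le_cent1 hy hc)) hg, cm ?_⟩))
    calc c⁻¹ * g * z = c⁻¹ * (g * z * g⁻¹) * g := by group
      _ = _ := by rw [← e]; group
  have k2 : 𝐂[y] ⊓ 𝐍(Vf z u) ≤ 𝐂(A) := fun g hg =>
    key g hg.1 (h.T_le_X (h.VT (conj_mem_of_mem_normalizer hg.2 h.zV)))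
  by_cases hn : 𝐂[y] ≤ 𝐍(Vf z u)
  · exact (le_inf le_rfl hn).trans k2
  have TD := h.T_le_X.trans (cent_le_cent1 hy)
  obtain ⟨O, o1, o2, o3, o4⟩ := (h.se hy y1 (cent_le_cent1 hy) le_rfl hn).core
    (h.AT.trans (le_inf TD h.T_le_N)) (odd_of_forall fun a => h.oddA) (cents_norm k2)
  obtain rfl : A = O := le_antisymm o4 fun a ha => (h.mA a).2
    ⟨h.odd_le_T hy y1 o1 o2 (TD.trans o3) ha, o1.of_dvd_nat (orderOf_dvd_natCard O ha)⟩
  exact fun g hg => key g hg (conj_mem_of_mem_normalizer (le_normalizer_centralizer o3 hg)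
    (h.T_le_X h.zT))

theorem inv_T_s {g : G} (hg : g ∈ T) (hs : g ∈ 𝐂[s]) : g = 1 ∨ g = z := by
  have e : g * g ∈ W := by
    have := h.sT g hg
    rwa [← mc hs, mul_assoc g, h.ss, mul_one] at this
  have n : u ∉ 𝐂[s] := fun m => h.z1 (by
    have := h.su
    rwa [← mc m, mul_assoc, h.ss, mul_one, left_eq_mul] at this)
  rcases h.pair.mem_closure.1 (h.four_T hg (by
    rcases h.hW _ e with e | e <;> rw [e]; exacts [one_mul 1, h.zz])) with e | e | e | e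
  exacts [.inl e, .inr e, (n (e ▸ hs)).elim,
    (n ((mul_mem_cancel_left (mem_cent1_comm.1 h.sC)).1 (e ▸ hs))).elim]

theorem s_norm_V : s ∈ 𝐍(Vf z u) := mem_normalizer_of_cj_le (by
  rw [cj_le_iff]
  exact pair_le (by rw [mem_cj, inv_inv, mc h.sC, mul_inv_cancel_right]; exact h.zV)
    (by rw [mem_cj, inv_inv, h.s_inv, h.su]; exact mul_mem h.uV h.zV))

theorem s_norm_X : s ∈ 𝐍(𝐂(A)) := normalizer_le_normalizer_centralizer A
  (mem_normalizer_of_cj_le (cj_le_of fun a ha => h.s_inverts ha ▸ inv_mem ha))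

theorem inv_M_s {y g : G} (hy : y ∈ A) (y1 : y ≠ 1) (hg : g ∈ 𝐂(A) ⊓ 𝐍(Vf z u)) (hs : g ∈ 𝐂[s]) :
    g = 1 ∨ g = z := by
  refine h.inv_T_s (h.cent_le hy y1 h.zV h.z1 ⟨cent_le_cent1 hy hg.1, cm ?_⟩) hs
  exact mul_inv_eq_iff_eq_mul.1 ((h.inv_T_s (h.VT (conj_mem_of_mem_normalizer hg.2 h.zV))
    (mul_mem (mul_mem hs (mem_cent1_comm.1 h.sC)) (inv_mem hs))).resolve_left (h.pair.conj g).ne₁)

theorem cube {y g : G} (hy : y ∈ A) (y1 : y ≠ 1) (hg : g ∈ 𝐂(A)) (hs : g ∈ 𝐂[s])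
    (ho : Odd (orderOf g)) : g ^ 3 = 1 := by
  have odd : ∀ g : G, Odd (orderOf g) → g * g = 1 → g ^ 3 = 1 := fun g a b => by
    rw [eq_one_of_odd a b, one_pow]
  by_cases gN : g ∈ 𝐍(Vf z u)
  · refine odd g ho ?_
    rcases h.inv_M_s hy y1 ⟨hg, gN⟩ hs with e | e <;> rw [e]
    exacts [one_mul 1, h.zz]
  have S := h.se hy y1 le_rfl (cent_le_cent1 hy) fun e => gN (e hg)
  have zM := S.mem
  have zs := mem_cent1_comm.1 h.sC
  have k2 := (H9.orderOf_conj g z).trans h.z2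
  have kX : g * z * g⁻¹ ∈ 𝐂(A) := mul_mem (mul_mem hg zM.1) (inv_mem hg)
  have ks : g * z * g⁻¹ ∈ 𝐂[s] := mul_mem (mul_mem hs zs) (inv_mem hs)
  have kM : g * z * g⁻¹ ∉ 𝐂(A) ⊓ 𝐍(Vf z u) := fun m => gN (S.mem_of hg zM h.z2 m).2
  rcases S.trans with t | ⟨O, o1, o2, o3, o4⟩
  swap
  · exact (gN (sup_le ((h.odd_le_T hy y1 o1 (o2.trans (cent_le_cent1 hy))
      (h.T_le_X.trans o3)).trans h.T_le_N) inf_le_right (o4 hg))).elim
  obtain ⟨k, hk⟩ : ∃ k, k = g * z * g⁻¹ := ⟨_, rfl⟩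
  rw [← hk] at k2 kX ks kM
  obtain ⟨m, hm, e⟩ := t k kX g hg kM fun m => gN m.2
  obtain ⟨d, hd, d1, d2⟩ := S.invol kX k2 kM zM h.z2 (mul_mem (mul_mem hm zM) (inv_mem hm))
    ((H9.orderOf_conj m z).trans h.z2)
  obtain ⟨v, hv, a, ha, e'⟩ := h.decT (t := d⁻¹ * m) (h.cent_le hy y1 h.zV h.z1
    ⟨cent_le_cent1 hy (mul_mem (Subgroup.inv_mem _ hd.1) hm.1), cm (by
      calc d⁻¹ * m * z = d⁻¹ * (m * z * m⁻¹) * m := by group
        _ = _ := by rw [← d2]; group)⟩)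
  have wV := conj_mem_of_mem_normalizer hd.2 hv
  have c : g⁻¹ * (d * v * d⁻¹) * k ∈ 𝐂(A) ⊓ 𝐍(Vf z u) := by
    have aM : a ∈ 𝐂(A) ⊓ 𝐍(Vf z u) := ⟨h.T_le_X (h.AT ha), h.T_le_N (h.AT ha)⟩
    convert mul_mem (mul_mem e (inv_mem aM)) (inv_mem d1) using 1
    rw [inv_mul_eq_iff_eq_mul.1 e', mul_assoc d (v * a), mul_assoc v a,
      mem_centralizer_iff_commute.1 kX a ha]
    group
  generalize d * v * d⁻¹ = w at wV c
  have ws : w ∈ 𝐂[s] := by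
    by_contra n
    have e : w⁻¹ * (s * w * s⁻¹) = z := by
      rw [h.s_inv]
      rcases h.pair.mem_closure.1 wV with rfl | rfl | rfl | rfl
      · exact (n (one_mem _)).elim
      · exact (n zs).elim
      · rw [h.su, inv_mul_cancel_left]
      · rw [← mul_assoc s, mc h.sC, mul_assoc z, mul_assoc z, h.su, mul_inv_rev]; group
    have := mul_mem (inv_mem c) (conj_mem_of_mem_normalizer (zpowers_le.1 (le_normalizer_inf
      (zpowers_le.2 h.s_norm_X) (zpowers_le.2 (le_normalizer h.s_norm_V)))) c)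
    rw [show s * (g⁻¹ * w * k) * s⁻¹ = (s * g⁻¹) * w * (k * s⁻¹) by group, ← mc (inv_mem hs),
      mc (mem_cent1_comm.1 (inv_mem (mem_cent1_comm.1 ks))),
      show (g⁻¹ * w * k)⁻¹ * (g⁻¹ * s * w * (s⁻¹ * k)) = k⁻¹ * (w⁻¹ * (s * w * s⁻¹)) * k⁻¹⁻¹ by group,
      e] at this
    exact kM (inv_mem_iff.1 (S.mem_of (inv_mem kX) zM h.z2 this))
  have kk := H9.mul_self_of_orderOf_two k2
  rcases h.inv_T_s (h.VT wV) ws with rfl | rfl <;>
    rcases h.inv_M_s hy y1 c (mul_mem (mul_mem (inv_mem hs) ws) ks) with e | e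
  · exact odd g ho (by rwa [show g = k by rw [← inv_mul_eq_one, ← e, mul_one]])
  · rw [hk, mul_one, mul_assoc g, inv_mul_cancel_left, mul_eq_left, inv_eq_one] at e
    rw [e, one_pow]
  · rw [mul_assoc, inv_mul_eq_one] at e
    have : w * g * w = g⁻¹ := by
      rw [eq_inv_iff_mul_eq_one, e]
      calc _ = (w * w) * k * (w * w) * k := by group
        _ = 1 := by rw [h.zz, mul_one, one_mul, kk]
    rw [hk, ← mul_assoc, ← mul_assoc, this] at e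
    rw [pow_succ, sq, ← eq_inv_iff_mul_eq_one, ← eq_mul_inv_iff_mul_eq]
    exact e
  · refine odd g ho ?_
    rw [show g = w * k * w⁻¹ by rw [eq_mul_inv_iff_mul_eq, ← eq_inv_mul_iff_mul_eq, ← mul_assoc, e]]
    calc _ = w * (k * k) * w⁻¹ := by group
      _ = 1 := by rw [kk]; group

end UE

end H73.U
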