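import Cfsg.Agent.Lib.ABG.U.Irr2
import Cfsg.Agent.Lib.ABG.U.Char
import Cfsg.Agent.Lib.BG5.Rank
import Cfsg.Agent.Lib.H4.Sieve2

/-! The index of `C(z)` is divisible by `p` when `q ≡ 1 mod 4`. -/

set_option autoImplicit false
set_option linter.style.haveILetI false
set_option linter.unusedSectionVars false
set_option linter.unusedVariables false

namespace H73.U

open Subgroup H45 H69 Cfsg H29

universe v

variable {G : Type v} [Group G] [Finite G]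

theorem not_dvd_pred {q r : ℕ} (hq : 1 ≤ q) (hr : r.Prime) (ho : Odd r) (h : r ∣ q + 1) :
    ¬ r ∣ 2 * (q - 1) := fun d => hr.ne_one ((cop_of_odd hq ho h).eq_one_of_dvd d)

omit [Finite G] in
theorem mem_norm_zpowers {g x : G} (h : g * x * g⁻¹ = x⁻¹) : g ∈ 𝐍(zpowers x) := by
  rw [← cj_eq_self_iff, cj_zpowers, h, zpowers_inv]

namespace UE

variable {p q : ℕ} {z u s : G} {W P H T A : Subgroup G} (h : UE p q z u s W P H T A)
include h

theorem key {a b y g : G} (hp : IsPair a b) (hr : (orderOf y).Prime) (yo : Odd (orderOf y))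
    (hd : orderOf y ∣ q + 1) (h1 : y ∈ 𝐂[a]) (h2 : b * y * b⁻¹ = y⁻¹) (g1 : g ∈ 𝐂[y])
    (g2 : g ∈ 𝐂[b]) (go : Odd (orderOf g)) : g ^ 3 = 1 := by
  obtain ⟨c, e⟩ := h.one a (H9.orderOf_eq_two_of_mul_self hp.ne₁ hp.sq₁)
  obtain ⟨d, dz, yT⟩ := conj_into hr h.TC (h.idxT ▸ fun k => ((Nat.Prime.dvd_mul hr).1 k).elim
    (fun k => hr.not_dvd_one ((Nat.dvd_add_right k).1 hd))
    fun k => not_dvd_pred h.q_odd.pos hr yo hd (k.mul_left 2)) ((conj_cent' e).2 h1)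
    (H9.orderOf_conj' c y)
  have e1 : (d * c⁻¹) * a * (d * c⁻¹)⁻¹ = z := by
    rw [← e, show d * c⁻¹ * (c * z * c⁻¹) * (d * c⁻¹)⁻¹ = d * z * d⁻¹ by group, mc dz,
      mul_inv_cancel_right]
  rw [show d * (c⁻¹ * y * c) * d⁻¹ = (d * c⁻¹) * y * (d * c⁻¹)⁻¹ by group] at yT
  generalize d * c⁻¹ = γ at e1 yT
  have p1 := hp.conj γ
  have i1 : (γ * b * γ⁻¹) * (γ * y * γ⁻¹) * (γ * b * γ⁻¹)⁻¹ = (γ * y * γ⁻¹)⁻¹ := by
    calc _ = γ * (b * y * b⁻¹) * γ⁻¹ := by group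
      _ = _ := by rw [h2]; group
  have c1 := (conj_cent (g := γ) rfl).2 g1
  have c2 := (conj_cent (g := γ) rfl).2 g2
  rw [← H9.orderOf_conj γ] at hr yo go
  rw [← orderOf_dvd_iff_pow_eq_one, ← H9.orderOf_conj γ, orderOf_dvd_iff_pow_eq_one]
  rw [e1] at p1
  generalize γ * b * γ⁻¹ = t at *
  generalize γ * y * γ⁻¹ = x at *
  have xA : x ∈ A := (h.mA x).2 ⟨yT, yo⟩
  have x1 : x ≠ 1 := fun e => hr.ne_one (orderOf_eq_one_iff.2 e)
  have tz : t ∈ 𝐂[z] := cm p1.comm.symm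
  have ti : t⁻¹ = t := inv_eq_of_mul_eq_one_right p1.sq₂
  have p2 := h.pair.conj t
  rw [mc tz, mul_inv_cancel_right] at p2
  have tu : t * u * t = u * z := by
    have m : t * u * t⁻¹ ∈ T := h.cent_le xA x1 h.zV h.z1 ⟨(conj_cent (a := x⁻¹) (by
      rw [← conj_inv, i1, inv_inv])).2 (mem_cent1_comm.1 (inv_mem (h.TU yT))), cm p2.comm.symm⟩
    rcases h.pair.mem_closure.1 (h.invol_T m p2.sq₂) with e | e | e | e
    · exact (p2.ne₂ e).elim
    · exact (p2.ne e.symm).elim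
    · rw [h.T_comm (h.mem_T tz (cm (mul_inv_eq_iff_eq_mul.1 e))) yT, mul_inv_cancel_right] at i1
      exact (x1 (eq_one_of_odd yo (eq_inv_iff_mul_eq_one.1 i1))).elim
    · rw [← h.pair.comm, ← e, ti]
  have h' : UE p q z u t W P H T A :=
    { h.of_s tz p1.sq₂ tu with one := h.one, hW := h.hW, h4 := h.h4, mA := h.mA }
  exact h'.cube xA x1 (h.cent_le_X xA x1 c1) c2 go

theorem s_notMem {y : G} (hy : y ∈ A) (y1 : y ≠ 1) : s ∉ 𝐂(A) := fun m => y1 (eq_one_of_odd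
  (h.oddA hy) (eq_inv_iff_mul_eq_one.1 ((conj_eq_of_mem_centralizer m hy).symm.trans
    (h.s_inverts hy))))

theorem exists_g {y : G} (hy : y ∈ A) (y1 : y ≠ 1) (hn : ¬ 𝐂(A) ≤ 𝐍(Vf z u)) :
    ∃ g ∈ 𝐂(A), g ∈ 𝐂[s] ∧ g ≠ 1 ∧ Odd (orderOf g) ∧ z * g * z⁻¹ = g⁻¹ := by
  have S := h.se hy y1 le_rfl (cent_le_cent1 hy) hn
  have zX := h.T_le_X h.zT
  have zs := mem_cent1_comm.1 h.sC
  have E : ∀ e ∈ 𝐂(A), e ∈ 𝐂[s] → e ∈ 𝐂[z] → e = 1 ∨ e = z := fun e a b c =>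
    h.inv_T_s (h.cent_le hy y1 h.zV h.z1 ⟨cent_le_cent1 hy a, c⟩) b
  obtain ⟨k, kX, ks, kz⟩ : ∃ k ∈ 𝐂(A), k ∈ 𝐂[s] ∧ k ∉ 𝐂[z] := by
    by_contra! hc
    obtain ⟨x, xX, xN⟩ := SetLike.not_le_iff_exists.1 hn
    have tX := mul_mem (mul_mem xX zX) (inv_mem xX)
    have t2 := (H9.orderOf_conj x z).trans h.z2
    have tz : x * z * x⁻¹ ∉ 𝐂[z] := fun m => xN (S.mem_of xX S.mem h.z2 (S.cent ⟨tX, m⟩)).2
    generalize x * z * x⁻¹ = t at tX t2 tz
    have tt := H9.mul_self_of_orderOf_two t2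
    have sX := h.s_norm_X
    rcases Nat.even_or_odd (orderOf (s * t)) with e | e
    · obtain ⟨c1, c2⟩ := H9.pow_half_commute h.ss tt e
      have o := H9.ne_one_of_orderOf_two (H9.orderOf_pow_half e)
      have i : ∀ n : ℕ, (s * t) ^ n ∈ 𝐂(A) ∨ (s * t) ^ n * s ∈ 𝐂(A) := fun n => by
        induction n with
        | zero => exact .inl (pow_zero (s * t) ▸ one_mem _)
        | succ n i =>
          rcases i with i | i
          · refine .inr ?_
            simpa [h.s_inv, pow_succ, mul_assoc] using mul_mem i (conj_mem_of_mem_normalizer sX tX)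
          · exact .inl (by simpa [pow_succ, mul_assoc] using mul_mem i tX)
      have i := i (orderOf (s * t) / 2)
      generalize (s * t) ^ (orderOf (s * t) / 2) = k at c1 c2 o i
      rcases i with i | i
      · exact tz (cm (((E k i (cm c1) (hc k i (cm c1))).resolve_left o) ▸ c2.symm))
      have m : k * s ∈ 𝐂[s] := mul_mem (cm c1) (self_mem_cent1 s)
      rcases E _ i m (hc _ i m) with e | e
      · rw [mul_eq_one_iff_eq_inv, h.s_inv] at e
        exact tz (hc t tX (cm (e ▸ c2.symm)))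
      · have e1 : u * s * u⁻¹ = k := by
          rw [eq_mul_inv_of_mul_eq e, ← mul_right_inj s, h.u_inv, ← mul_assoc, ← mul_assoc, h.su,
            ← mul_assoc, mc h.sC, mul_inv_cancel_right, ← h.pair.comm, mul_assoc, h.uu, mul_one]
        have := hc _ (conj_mem_of_mem_normalizer' (le_normalizer (h.T_le_X h.uT)) tX)
          ((conj_cent' e1).2 (cm c2.symm))
        exact tz ((conj_cent' (mul_inv_eq_of_eq_mul (mc h.uC))).1 this)
    · obtain ⟨n, e⟩ := H9.exists_pow_conj_of_odd h.ss tt e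
      refine h.s_notMem hy y1 ?_
      have m := pow_mem (mul_mem sX (le_normalizer tX)) n
      generalize (s * t) ^ n = k at e m
      simpa [← e, mul_assoc] using conj_mem_of_mem_normalizer' m tX
  have p1 := h.pair.conj k
  have m1 := mul_mem (mul_mem kX zX) (inv_mem kX)
  have m2 := mul_mem (mul_mem ks zs) (inv_mem ks)
  have ne : k * z * k⁻¹ ≠ z := fun e => kz (cm (mul_inv_eq_iff_eq_mul.1 e))
  refine ⟨_, mul_mem zX m1, mul_mem zs m2, fun e => ne ?_, ?_, H9.left_inverts h.zz p1.sq₁⟩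
  · rw [← inv_eq_of_mul_eq_one_right e, h.z_inv]
  · rw [← Nat.not_even_iff_odd]
    intro e
    obtain ⟨c1, c2⟩ := H9.pow_half_commute h.zz p1.sq₁ e
    rw [(E _ (pow_mem (mul_mem zX m1) _) (pow_mem (mul_mem zs m2) _) (cm c1)).resolve_left
      (H9.ne_one_of_orderOf_two (H9.orderOf_pow_half e))] at c2
    exact (E _ m1 m2 (cm c2.symm)).elim p1.ne₁ ne

theorem not_dvd_cent {x : G} (hx : x ∈ H) (ox : orderOf x = 3) (h3 : 3 ∣ q - 1) {l : ℕ}
    (hl : l.Prime) (lo : Odd l) (hd : l ∣ q + 1) : ¬ l ∣ Nat.card (𝐂[x] : Subgroup G) := by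
  intro d
  haveI := Fact.mk hl
  have x1 : x ≠ 1 := fun e => by simp [e] at ox
  have xo : Odd (orderOf x) := by rw [ox]; decide
  obtain ⟨Y, oY, mY, eY, n1, n2, -⟩ := h.toUB.exists_Y hx x1 xo (ox ▸ h3)
  have nH : ¬ l ∣ Nat.card H := by
    rw [h.cardH, h.cardW']; exact not_dvd_pred h.q_odd.pos hl lo hd
  obtain ⟨e, he, oe⟩ := h.toUB.exists_elt
  obtain ⟨j, hj⟩ : ∃ j, q - 1 = 4 * (j + 1) :=
    ⟨q / 4 - 1, by have := h.h4; have := h.three_le; omega⟩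
  have oi : orderOf (e ^ (2 * (j + 1))) = 4 := by
    rw [orderOf_pow' _ (by omega), oe, hj, show 2 * (4 * (j + 1)) = 4 * (2 * (j + 1)) by ring,
      Nat.gcd_mul_left_left, Nat.mul_div_cancel _ (by omega)]
  have iH := pow_mem he (2 * (j + 1))
  generalize e ^ (2 * (j + 1)) = i at oi iH
  have ui := h.u_inverts iH (by rw [oi, hj]; exact dvd_mul_right _ _)
  have i4 : i ^ 2 ^ 2 = 1 := orderOf_dvd_iff_pow_eq_one.1 (oi ▸ dvd_rfl)
  have ii : i * i = z := (h.invol_H (mul_mem iH iH) (by rw [← i4, ← sq, ← sq, ← pow_mul]; rfl)).resolve_left fun e =>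
    absurd (oi ▸ orderOf_dvd_of_pow_eq_one (n := 2) (by rwa [sq])) (by decide)
  have iu : i * u * i⁻¹ = z * u := by
    rw [← ii, mul_assoc i, mul_assoc i, mul_right_inj, ← ui, ← mul_assoc, ← mul_assoc, h.uu,
      one_mul, h.u_inv]
  obtain ⟨R, hR, nR⟩ := exists_inv_syl hl (isPGroup_sup_of_le_normalizer_left
    (H9.isPGroup_zpowers_of_pow i4) (H9.isPGroup_zpowers_of_mul_self h.uu)
    (zpowers_le.2 (mem_norm_zpowers ui))) oY (sup_le (zpowers_le.2 (n1 iH)) (zpowers_le.2 n2))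
  have iR : i ∈ 𝐍(R) := nR (mem_sup_left (mem_zpowers i))
  have uR : u ∈ 𝐍(R) := nR (mem_sup_right (mem_zpowers u))
  have zR : z ∈ 𝐍(R) := ii ▸ mul_mem iR iR
  have oR : Odd (Nat.card R) := oY.of_dvd_nat (card_dvd_of_le hR.le)
  have c0 : R ⊓ 𝐂[z] = ⊥ := eq_bot_of_not_dvd (hR.isP.to_le inf_le_left) (fun g hg =>
    h.cH x hx (h.notMem_W x1 xo (ox ▸ h3)) g hg.2 (mc ((mY g).1 (hR.le hg.1)).1)) nH
  have inv : ∀ k ∈ R, z * k * z⁻¹ = k⁻¹ := fun k hk => by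
    obtain ⟨a, ha, a1, a2⟩ := H52.exists_inverted_mul oR h.zz
      (fun a ha => conj_mem_of_mem_normalizer zR ha) hk
    exact inv_mul_eq_one.1 (mem_bot.1 (c0.le (mem_inf.2 ⟨mul_mem (inv_mem ha) hk,
      cm (mul_inv_eq_iff_eq_mul.1 a2).symm⟩))) ▸ a1
  have ne : R ⊓ 𝐂[u] ≠ ⊥ := fun c => hR.dvd_card_iff.1
    (((Nat.Prime.dvd_mul hl).1 (d.trans eY.card_dvd)).resolve_right nH)
    (eq_bot_iff.2 (gen_four h.pair oR zR uR c0.le c.le fun g hg => by
      simpa using mem_cj.2 (c.le (mem_inf.2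
        ⟨conj_mem_of_mem_normalizer' iR hg.1, (conj_cent' iu).2 hg.2⟩))))
  obtain ⟨y, hy, oy⟩ := exists_orderOf_eq_prime (hR.isP.to_le inf_le_left) ne
  have yR := conj_mem_of_mem_normalizer iR hy.1
  have := h.key h.pair.rot (oy ▸ hl) (oy ▸ lo) (oy ▸ hd) hy.2 (by
      rw [h.pair.comm, show u * z * y * (u * z)⁻¹ = u * (z * y * z⁻¹) * u⁻¹ by group, inv y hy.1,
        ← mc (inv_mem hy.2), mul_inv_cancel_right])
    (cm (by
      rw [← inv_inj, ← inv _ (mul_mem yR hy.1), mul_inv_rev, ← inv _ yR, ← inv _ hy.1]; group))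
    ((conj_cent iu).2 hy.2) (by rw [H9.orderOf_conj, oy]; exact lo)
  have l3 := orderOf_dvd_of_pow_eq_one this
  rw [H9.orderOf_conj, oy, Nat.prime_dvd_prime_iff_eq hl Nat.prime_three] at l3
  exact not_dvd_pred h.q_odd.pos hl lo hd (l3 ▸ h3.mul_left 2)

theorem caseA (hn : ¬ 𝐂(A) ≤ 𝐍(Vf z u)) {a : G} (ha : a ∈ A) : a ^ 3 = 1 := by
  by_contra a3
  have a1 : a ≠ 1 := fun e => a3 (by rw [e, one_pow])
  obtain ⟨g, gX, gs, g1, go, zg⟩ := h.exists_g ha a1 hn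
  haveI := Fact.mk Nat.prime_three
  have o3 : orderOf g = 3 := orderOf_eq_prime (h.cube ha a1 gX gs go) g1
  have ps : IsPair z s := ⟨h.zz, h.z1, h.ss, fun e => h.s_notMem ha a1 (e ▸ one_mem _),
    fun e => h.s_notMem ha a1 (e ▸ h.T_le_X h.zT), (mc h.sC).symm⟩
  by_cases d1 : 3 ∣ q + 1
  · exact a3 (h.key ps.symm (o3 ▸ Nat.prime_three) go (o3 ▸ d1) gs zg
      (cm (mem_centralizer_iff_commute.1 gX a ha)) (h.TC (h.AT ha)) (h.oddA ha))
  by_cases d2 : 3 ∣ q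
  · obtain ⟨f, -, e⟩ := h.hq
    obtain rfl := (Nat.prime_dvd_prime_iff_eq Nat.prime_three h.hp).1
      (Nat.prime_three.dvd_of_dvd_pow (e ▸ d2))
    exact g1 (zpowers_eq_bot.1 (h.toUB.no_four ps
      (isPGroup_of_card_eq ((Nat.card_zpowers g).trans o3)) (mem_norm_zpowers zg)
      (centralizer_le_normalizer _ (centralizer_zpowers g ▸ mem_cent1_comm.1 gs))))
  obtain ⟨c, e⟩ := h.one s (H9.orderOf_eq_two_of_mul_self ps.ne₂ h.ss)
  obtain ⟨d, -, xH⟩ := conj_into Nat.prime_three h.HC (h.idxH ▸ fun k =>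
    ((Nat.Prime.dvd_mul Nat.prime_three).1 k).elim d2 d1) ((conj_cent' e).2 gs)
    ((H9.orderOf_conj' c g).trans o3)
  obtain ⟨k, hk⟩ := exists_prime_pow a1
  have kA := pow_mem ha k
  refine h.not_dvd_cent xH ((H9.orderOf_conj _ _).trans ((H9.orderOf_conj' c g).trans o3))
    (by have := h.three_le; omega) hk (h.oddA kA) ((Nat.coprime_two_right.2
      (h.oddA kA)).dvd_of_dvd_mul_left (h.cardW' ▸ h.cardT ▸ orderOf_dvd_natCard T (h.AT kA))) ?_
  rw [← cj_centralizer_singleton, card_cj, ← inv_inv c, inv_inv c⁻¹, ← cj_centralizer_singleton,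
    card_cj]
  exact orderOf_dvd_natCard _ (cm (mem_centralizer_iff_commute.1 gX _ kA))

theorem caseB (hn : 𝐂(A) ≤ 𝐍(Vf z u))
    (hb : 16 * (𝐂[z] : Subgroup G).index ≤ 27 * (q * (q + 1) ^ 2 * (q - 1))) {a : G} (ha : a ∈ A) :
    a ^ 3 = 1 := by
  classical
  by_contra a3
  have a1 : a ≠ 1 := fun e => a3 (by rw [e, one_pow])
  haveI := Fintype.ofFinite G
  have XT : 𝐂[z] ⊓ 𝐂(A) = T := le_antisymm (fun g hg => h.cent_le ha a1 h.zV h.z1
    ⟨cent_le_cent1 ha hg.2, hg.1⟩) (le_inf h.TC h.T_le_X)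
  have i3 : T.relIndex 𝐂(A) = 3 := by
    rw [← XT, inf_relIndex_right, H49.relIndex_centralizer_eq_ncard, Set.ncard_eq_three]
    refine ⟨z, u, z * u, h.pair.ne, h.pair.symm.rot.ne.trans_eq h.pair.comm.symm, h.pair.rot.ne,
      Set.ext fun v => ⟨?_, fun hv => ?_⟩⟩
    · rintro ⟨w, hw, rfl⟩
      exact (h.pair.mem_closure.1 (conj_mem_of_mem_normalizer (hn hw) h.zV)).resolve_left
        (h.pair.conj w).ne₁
    · obtain ⟨m, hm, e⟩ := h.exists_conj_V (h.pair.mem_closure.2 (.inr hv)) (by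
        rcases hv with rfl | rfl | rfl; exacts [h.z1, h.u1, h.pair.rot.ne₂])
      exact ⟨m, hm.1, e⟩
  have i4 : A.relIndex T = 4 := relIndex_eq h.AT (by
    rw [MulEq.card_of_inf_eq_bot ⟨h.VT, h.AT, fun t ht => h.decT ht⟩ (eq_bot_iff.2 fun g hg =>
      eq_one_of_odd (h.oddA hg.2) (h.sqV hg.1)), IsPair.card h.pair, mul_comm])
  have or : ∀ b ∈ 𝐍(Vf z u), b * s ∈ 𝐂(A) ∨ b ∈ 𝐂(A) := fun b hb => by
    obtain ⟨m, hm, e⟩ := h.exists_conj_V (conj_mem_of_mem_normalizer hb h.zV) (h.pair.conj b).ne₁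
    have c : m⁻¹ * b * z * (m⁻¹ * b)⁻¹ = z := by
      calc _ = m⁻¹ * (b * z * b⁻¹) * m := by group
        _ = z := by rw [← e]; group
    have mX : m ∈ 𝐂(A) := hm.1
    have cz : m⁻¹ * b ∈ 𝐂[z] := cm (mul_inv_eq_iff_eq_mul.1 c)
    have p1 := h.pair.conj (m⁻¹ * b)
    rw [c] at p1
    rcases h.pair.mem_closure.1 (conj_mem_of_mem_normalizer (mul_mem (Subgroup.inv_mem _ hm.2) hb) h.uV) with
      e | e | e | e
    · exact (p1.ne₂ e).elim
    · exact (p1.ne e.symm).elim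
    · exact .inr ((mul_mem_cancel_left (inv_mem mX)).1
        (h.T_le_X (h.mem_T cz (cm (mul_inv_eq_iff_eq_mul.1 e)))))
    · refine .inl ((mul_mem_cancel_left (inv_mem mX)).1 (mul_assoc m⁻¹ b s ▸ h.T_le_X
        (h.mem_T (mul_mem cz h.sC) (cm (mul_inv_eq_iff_eq_mul.1 ?_)))))
      calc _ = m⁻¹ * b * (s * u * s⁻¹) * (m⁻¹ * b)⁻¹ := by group
        _ = (m⁻¹ * b * u * (m⁻¹ * b)⁻¹) * (m⁻¹ * b * z * (m⁻¹ * b)⁻¹) := by
          rw [h.s_inv, h.su]; group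
        _ = u := by rw [e, c, h.pair.comm, mul_assoc, h.zz, mul_one]
  have sX := h.s_notMem ha a1
  have := ti_central h.pair (fun v a b => isConj_iff.2 (h.one v (H9.orderOf_eq_two_of_mul_self b a)))
    (h.AT.trans h.T_le_X) (fun a ha x hx => mem_centralizer_iff_commute.1 hx a ha) hn
    (index_eq_two_iff_exists_notMem_and.2 ⟨⟨s, h.s_norm_V⟩, sX, fun b => or b b.2⟩)
    (fun n m n' b hb => by
      have := conj_eq_of_mem_centralizer ((or n m).resolve_right n') (inv_mem hb)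
      rw [← this, ← h.s_inverts hb]
      calc _ = n * (s * s) * b * (s * s)⁻¹ * n⁻¹ := by rw [h.ss]; group
        _ = _ := by group)
    (odd_of_forall fun a => h.oddA) ⟨a, ha, fun e => a3 (by
      rw [← relIndex_mul_relIndex A T _ h.AT h.T_le_X, i3, i4] at e
      exact eq_one_of_odd (h.oddA (pow_mem ha 3)) (eq_one_of_odd (h.oddA (mul_mem (pow_mem ha 3)
        (pow_mem ha 3))) (by rw [← e]; group)))⟩
    fun g b hb b1 gb => by
      have k : ∀ v ∈ Vf z u, g * v * g⁻¹ ∈ Vf z u := fun v hv => by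
        by_cases v1 : v = 1
        · simp [v1]
        obtain ⟨m, hm, e⟩ := h.cl ha a1 inf_le_left (cent_le_cent1 ha) (h.cent_le_X gb
          (by simpa using b1) ((conj_cent rfl).2 (cent_le_cent1 hb (h.T_le_X (h.VT hv)))))
          ((H9.orderOf_conj g v).trans (H9.orderOf_eq_two_of_mul_self v1 (h.sqV hv)))
        exact e ▸ conj_mem_of_mem_normalizer (hn hm) h.zV
      exact mem_normalizer_of_cj_le (cj_le_of k)
  have l1 : (𝐂[s] : Subgroup G).relIndex 𝐂(A) ≤ (H46.C.outInv 𝐂(A) 𝐍(Vf z u)).card := by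
    rw [← Set.ncard_coe_finset]
    refine H49.relIndex_centralizer_le_ncard _ _ _ fun w hw => H46.C.mem_outInv.2
      ⟨mul_mem (mul_mem (hn hw) h.s_norm_V) (inv_mem (hn hw)), fun m => sX ?_, ?_⟩
    · rwa [mul_mem_cancel_right (inv_mem hw), mul_mem_cancel_left hw] at m
    · calc _ = w * (s * s) * w⁻¹ := by group
        _ = 1 := by rw [h.ss]; group
  have l2 : Nat.card ↥(𝐂[s] ⊓ 𝐂(A)) ≤ 2 := h.cardW' ▸ card_le_of_le fun g hg => by
    rcases h.inv_M_s ha a1 ⟨hg.2, hn hg.2⟩ hg.1 with rfl | rfl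
    exacts [one_mem _, h.zW]
  have l3 := relIndex_mul_relIndex ⊥ _ _ bot_le (inf_le_right (a := 𝐂[s]) (b := 𝐂(A)))
  have l4 := relIndex_mul_relIndex ⊥ _ _ bot_le h.T_le_X
  rw [relIndex_bot_left, relIndex_bot_left] at l3 l4
  rw [inf_relIndex_right] at l3
  rw [i3, h.cardT, h.cardW'] at l4
  have l5 := l3.ge.trans (Nat.mul_le_mul l2 l1)
  rw [← (𝐂[z] : Subgroup G).index_mul_card, h.cardC, h.cardH, h.cardW', ← l4] at this
  rw [← l4] at l5
  generalize (𝐂[z] : Subgroup G).index = k at *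
  generalize (H46.C.outInv 𝐂(A) 𝐍(Vf z u)).card = o at *
  generalize q - 1 = r at *
  have l6 := Nat.pow_le_pow_left (show 3 * (q + 1) ≤ o by omega) 2
  have l7 := Nat.mul_le_mul_left (6 * (q + 1) * k) hb
  nlinarith [Nat.mul_le_mul_right (k * (q * (q + 1) * (2 * r))) l6]

theorem eq_five (hb : 16 * (𝐂[z] : Subgroup G).index ≤ 27 * (q * (q + 1) ^ 2 * (q - 1))) :
    q = 5 := by
  obtain ⟨t, ht, e⟩ := h.cycT
  obtain ⟨v, hv, a, ha, rfl⟩ := h.decT ht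
  have a3 := (em _).elim (h.caseB · hb ha) (h.caseA · ha)
  have d := MulEq.card_dvd ⟨h.WT, zpowers_le.2 ht, fun x hx => by
    obtain ⟨w, hw, k, rfl⟩ := e x hx
    exact ⟨w, hw, _, zpow_mem_zpowers _ k, rfl⟩⟩
  rw [h.cardT, Nat.card_zpowers] at d
  have := Nat.le_of_dvd (by decide) ((Nat.dvd_of_mul_dvd_mul_left Nat.card_pos d).trans
    (orderOf_dvd_of_pow_eq_one (n := 6) (by
      rw [Commute.mul_pow (h.T_comm (h.VT hv) (h.AT ha)), pow_mul v 2 3, pow_mul a 3 2, sq v, h.sqV hv,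
        a3]; simp)))
  have := h.h4
  have := h.three_le
  omega

end UE

theorem UD.irr_false [IsSimpleGroup G] {p q : ℕ} {z u s : G} {W P H T : Subgroup G}
    (h : UD p q z u s W P H T) (h4 : q % 4 = 1) (hk : ¬ p ∣ (𝐂[z] : Subgroup G).index)
    (h1 : (𝐂[z] : Subgroup G).index.Coprime (q - 1) → q = 5)
    (h2 : q = 5 → (𝐂[z] : Subgroup G).index = 357)
    (h3 : 16 * (𝐂[z] : Subgroup G).index ≤ 27 * (q * (q + 1) ^ 2 * (q - 1))) : False := by
  have q5 : q = 5 := by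
    by_cases hw : ∃ w ∈ W, w ≠ 1 ∧ Odd (orderOf w)
    · obtain ⟨w, a, b, c⟩ := hw
      exact h1 (h.coprime a b c)
    obtain ⟨A, mA⟩ := exists_oddPart fun a ha b hb => h.T_comm ha hb
    refine UE.eq_five (A := A) ⟨h, fun w m => h.invol_H (h.WH m) (by_contra fun e => hw
      ⟨_, mul_mem m m, e, Odd.of_dvd_nat (show Odd (2 * (q / 4) + 1) by simp)
        (orderOf_dvd_of_pow_eq_one ?_)⟩), h4, mA⟩ h3
    rw [← sq, ← pow_mul, show 2 * (2 * (q / 4) + 1) = q + 1 by omega]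
    exact orderOf_dvd_iff_pow_eq_one.1 ((orderOf_dvd_natCard W m).trans h.cardW)
  subst q5
  obtain rfl : p = 5 := (Nat.prime_dvd_prime_iff_eq h.hp Nat.prime_five).1 h.p_dvd
  haveI := h.fact
  obtain ⟨Q, rfl⟩ := (h.sylP.trans_of_not_dvd le_top (by rwa [relIndex_top_right])).exists_sylow_top
  have nc : ¬ IsMulCommutative G := fun c => h.z1 (by
    have := h.su
    rwa [c.is_comm.comm s u, mul_assoc, h.ss, mul_one, left_eq_mul] at this)
  have e := (𝐂[z] : Subgroup G).index_mul_card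
  rw [h2 rfl, h.cardC, h.cardH] at e
  have d : ∀ c, Nat.card (𝐂((Q : Subgroup G)) : Subgroup G) = 5 * c → Nat.card W ∣ c := fun c hc =>
    Nat.Coprime.dvd_of_dvd_mul_left (Nat.Coprime.coprime_dvd_left h.cardW (by decide))
      (hc ▸ card_dvd_of_le h.toUB.W_le_cent)
  obtain ⟨j, hj⟩ := h.even_W
  have j3 : j ∣ 3 := Nat.dvd_of_mul_dvd_mul_left two_pos (hj ▸ h.cardW)
  rcases (Nat.dvd_prime Nat.prime_three).1 j3 with rfl | rfl
  · obtain ⟨_, c, _, a, -, b, -⟩ := H4.Sv.exists_data nc 5 h.hp2 Q h.cardP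
      (C := fun _ _ c _ => c % 2 != 0) (by rw [← e, hj]; decide +kernel)
    have := hj ▸ d c b
    simp only [bne_iff_ne] at a
    omega
  · obtain ⟨_, c, _, a, -, b, -⟩ := H4.Sv.exists_data nc 5 h.hp2 Q h.cardP
      (C := fun _ _ c _ => c % 6 != 0) (by rw [← e, hj]; decide +kernel)
    have := hj ▸ d c b
    simp only [bne_iff_ne] at a
    omega

end H73.U
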