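import Cfsg.Agent.Lib.ABG.U.Irr1

/-! Transport of the description of `GU₂(q)` to a central quotient. -/

set_option autoImplicit false
set_option linter.style.haveILetI false
set_option linter.unusedSectionVars false
set_option linter.unusedVariables false

namespace H73.U

open Subgroup H45 H69 Cfsg H29

universe v w

variable {G : Type v} [Group G] [Finite G] {Γ : Type w} [Group Γ] [Finite Γ]

theorem UC.map {p q : ℕ} {z u s : Γ} {W P H T : Subgroup Γ} (h : UC p q z u s W P H T)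
    (hz : ∀ g, g ∈ 𝐂[z]) (hc : ∀ a b, a * b * (b * a)⁻¹ ∈ W → (a * b * (b * a)⁻¹) ^ 2 = 1)
    (π : Γ →* G) (k1 : π.ker ≤ W) (k2 : Odd (Nat.card π.ker)) (hr : ∀ x ∈ 𝐂[π z], ∃ g, π g = x) :
    UC p q (π z) (π u) (π s) (W.map π) (P.map π) (H.map π) (T.map π) := by
  have ko : ∀ g, π g = 1 → Odd (orderOf g) := fun g e =>
    k2.of_dvd_nat (orderOf_dvd_natCard π.ker e)
  have mC : ∀ g, π g ∈ 𝐂[π z] := fun g => cm (by rw [← map_mul, mc (hz g), map_mul])
  have le : ∀ A : Subgroup Γ, A.map π ≤ 𝐂[π z] := fun A => map_le_iff_le_comap.2 fun g _ => mC g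
  have comm : ∀ {a b}, π a * π b = π b * π a → a * b = b * a := fun {a b} e => by
    have m : π (a * b * (b * a)⁻¹) = 1 := by rw [map_mul, map_inv, map_mul, map_mul, e, mul_inv_cancel]
    exact mul_inv_eq_one.1 (eq_one_of_odd (ko _ m) (sq (a * b * (b * a)⁻¹) ▸ hc a b (k1 m)))
  have im : ∀ {a b}, a * b = b * a → π a * π b = π b * π a := fun e => by
    rw [← map_mul, e, map_mul]
  have mem : ∀ {A : Subgroup Γ} {g}, W ≤ A → π g ∈ A.map π → g ∈ A := fun {A g} l m => by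
    rwa [← mem_comap, comap_map_eq, sup_eq_left.2 (k1.trans l)] at m
  have card : ∀ A : Subgroup Γ, W ≤ A → Nat.card π.ker * Nat.card (A.map π) = Nat.card A :=
    fun A l => by rw [← H1.card_map_mul_card_inf_ker π A, inf_eq_left.2 (k1.trans l), mul_comm]
  have top : (⊤ : Subgroup Γ).map π = 𝐂[π z] := le_antisymm (le _) fun x hx => by
    obtain ⟨g, rfl⟩ := hr x hx
    exact ⟨g, trivial, rfl⟩
  have ct : (𝐂[z] : Subgroup Γ) = ⊤ := eq_top_iff.2 fun g _ => hz g
  have cW := card W le_rfl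
  have k0 : 0 < Nat.card π.ker := Nat.card_pos
  refine
    { hp := h.hp, hp2 := h.hp2, hq := h.hq
      z2 := H9.orderOf_eq_two_of_mul_self (fun e => h.z1 (eq_one_of_odd (ko z e) h.zz))
        (by rw [← map_mul, h.zz, map_one])
      cardW := (Dvd.intro_left _ cW).trans h.cardW
      cardH := Nat.eq_of_mul_eq_mul_left k0 (by rw [card H h.WH, ← mul_assoc, cW, h.cardH])
      cardP := ?_
      cardC := Nat.eq_of_mul_eq_mul_left k0 (by
        rw [← top, card ⊤ le_top, mul_left_comm, card H h.WH, ← h.cardC, ct])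
      zW := mem_map_of_mem π h.zW
      WH := map_mono h.WH
      HC := le _
      PC := le _
      Wc := ?_, cyc := ?_, Pc := ?_, nP := ?_, ti := ?_, cP := ?_, cH := ?_
      uC := mC u
      uu := by rw [← map_mul, h.uu, map_one]
      uW := fun m => h.uW (mem le_rfl m)
      uH := ?_
      zP := by rw [← map_cj, ← Subgroup.map_sup]; exact mem_map_of_mem π h.zP
      cardT := Nat.eq_of_mul_eq_mul_left k0 (by rw [card T h.WT, ← mul_assoc, cW, h.cardT])
      memT := fun x => ⟨?_, ?_⟩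
      ca := ?_, inv := ?_
      sC := mC s
      ss := by rw [← map_mul, h.ss, map_one]
      su := by rw [← map_mul, ← map_mul, h.su, map_mul]
      sT := ?_, cycT := ?_, ab := ?_ }
  · rw [← h.cardP, ← H1.card_map_mul_card_inf_ker π P, (eq_bot_iff (a := π.ker ⊓ P)).2 fun g hg =>
      h.eq_one h.isP hg.2 (h.WH (k1 hg.1)), card_bot, mul_one]
  · rintro _ ⟨w, hw, rfl⟩ x hx
    obtain ⟨g, rfl⟩ := hr x hx
    exact im (h.Wc w hw g (hz g))
  · haveI := h.cyc
    exact isCyclic_of_surjective _ (π.subgroupMap_surjective H)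
  · rintro _ ⟨x, hx, rfl⟩ _ ⟨y, hy, rfl⟩
    exact im (h.Pc x hx y hy)
  · exact (map_mono h.nP).trans (le_normalizer_map π)
  · rintro _ ⟨x, hx, rfl⟩ x1 y hy ⟨a, ha, e⟩
    obtain ⟨g, rfl⟩ := hr y hy
    rw [← Subgroup.map_sup]
    refine mem_map_of_mem π (h.ti x hx (fun e => x1 (by rw [e, map_one])) g (hz g) ?_)
    have m : π (a⁻¹ * (g * x * g⁻¹)) = 1 := by simp [e, mul_assoc]
    haveI := h.fact
    have := h.eq_one (R := zpowers (a⁻¹ * (g * x * g⁻¹))) ?_ (mem_zpowers _) (h.WH (k1 m))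
    · exact inv_mul_eq_one.1 this ▸ ha
    obtain ⟨f, -, hq⟩ := h.hq
    refine H9.isPGroup_zpowers_of_pow (a := f) ?_
    have pw : ∀ y ∈ P, y ^ q = 1 := fun y hy =>
      orderOf_dvd_iff_pow_eq_one.1 (h.cardP ▸ orderOf_dvd_natCard P hy)
    have c : Commute a⁻¹ (g * x * g⁻¹) := by
      have := h.Wc _ (k1 m) a (hz a)
      rw [mul_inv_cancel_left, mul_assoc, inv_mul_eq_iff_eq_mul] at this
      exact Commute.inv_left this.symm
    rw [← hq, c.mul_pow, inv_pow, pw a ha, conj_pow, pw x hx]; group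
  · rintro _ ⟨x, hx, rfl⟩ x1 y hy e
    obtain ⟨g, rfl⟩ := hr y hy
    rw [← Subgroup.map_sup]
    exact mem_map_of_mem π (h.cP x hx (fun e => x1 (by rw [e, map_one])) g (hz g) (comm e))
  · rintro _ ⟨x, hx, rfl⟩ x1 y hy e
    obtain ⟨g, rfl⟩ := hr y hy
    exact mem_map_of_mem π (h.cH x hx (fun m => x1 (mem_map_of_mem π m)) g (hz g) (comm e))
  · rintro _ ⟨x, hx, rfl⟩
    rw [← map_pow, ← map_mul, ← map_mul, ← map_mul, h.uH x hx, map_one]
  · rintro ⟨x, hx, rfl⟩
    exact ⟨mC x, im (mc (h.TU hx))⟩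
  · rintro ⟨hx, e⟩
    obtain ⟨g, rfl⟩ := hr x hx
    exact mem_map_of_mem π (h.mem_T (hz g) (cm (comm e)))
  · intro x hx m a ha b hb e1 e2
    obtain ⟨g, rfl⟩ := hr x hx
    obtain ⟨a, rfl⟩ := hr a ha
    obtain ⟨b, rfl⟩ := hr b hb
    exact im (h.ca g (hz g) (fun k => m (mem_map_of_mem π k)) a (hz a) b (hz b) (comm e1) (comm e2))
  · intro x hx e m
    obtain ⟨g, rfl⟩ := hr x hx
    obtain ⟨n, hn⟩ := ko (g * g) (by rw [map_mul, e])
    have e1 : π (g ^ (2 * n + 1)) = π g := by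
      rw [map_pow, pow_succ, pow_mul, sq, e, one_pow, one_mul]
    obtain ⟨c, -, e2⟩ := h.inv (g ^ (2 * n + 1)) (hz _)
      (by rw [← (Commute.refl g).mul_pow, ← hn, pow_orderOf_eq_one])
      fun k => m (e1 ▸ mem_map_of_mem π k)
    exact ⟨π c, mC c, by rw [← e2, map_mul, map_mul, map_inv, e1]⟩
  · rintro _ ⟨t, ht, rfl⟩
    simpa using mem_map_of_mem π (h.sT t ht)
  · obtain ⟨t, ht, e⟩ := h.cycT
    refine ⟨π t, mem_map_of_mem π ht, ?_⟩
    rintro _ ⟨x, hx, rfl⟩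
    obtain ⟨w, hw, k, rfl⟩ := e x hx
    exact ⟨π w, mem_map_of_mem π hw, k, by rw [map_mul, map_zpow]⟩
  · intro A hA o1 o2 a ha b hb
    obtain ⟨a, rfl⟩ := hr a (hA ha)
    obtain ⟨b, rfl⟩ := hr b (hA hb)
    have d := H1.card_comap_dvd π A
    exact im (h.ab (A.comap π) (fun g _ => hz g) ((o1.mul k2).of_dvd_nat d)
      (fun k => ((Nat.Prime.dvd_mul h.hp).1 (k.trans d)).elim
        o2 fun k => h.not_dvd_H (k.trans (card_dvd_of_le (k1.trans h.WH)))) a ha b hb)

end H73.U
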