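import Cfsg.Agent.Lib.ABG.U.Irr1
import Cfsg.Agent.Lib.ABG.C.OD
import Cfsg.Agent.Lib.BG3.Dim2

/-! The group `GU₂(q)`, `q` odd. -/

set_option autoImplicit false
set_option linter.style.haveILetI false
set_option linter.unusedSectionVars false
set_option linter.unusedVariables false

namespace H73.U

open Subgroup H45 H69 Cfsg H29 Matrix H46.C H46.Q H11.U MatrixGroups

variable {K : Type*} [Field K] [Fintype K] {q : ℕ} [IsSq K q]

theorem mem_GU2 {g : GL (Fin 2) K} : g ∈ GU 2 K q ↔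
    (g.1 0 0 * H11.U.cj q (g.1 0 0) + g.1 1 0 * H11.U.cj q (g.1 1 0) = 1 ∧
    g.1 0 0 * H11.U.cj q (g.1 0 1) + g.1 1 0 * H11.U.cj q (g.1 1 1) = 0) ∧
    g.1 0 1 * H11.U.cj q (g.1 0 0) + g.1 1 1 * H11.U.cj q (g.1 1 0) = 0 ∧
    g.1 0 1 * H11.U.cj q (g.1 0 1) + g.1 1 1 * H11.U.cj q (g.1 1 1) = 1 := by
  rw [mem_GU, isIso_iff, ← Matrix.ext_iff]
  simp [Fin.forall_fin_two, Matrix.mul_apply, Fin.sum_univ_two]

/-- The unitary group of a skew-hermitian form. -/
def Sk (q : ℕ) [IsSq K q] (h : GL (Fin 2) K) : Prop :=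
  (H11.U.cj q (h.1 0 0) * dt h = h.1 0 0 ∧ H11.U.cj q (h.1 0 1) * dt h = h.1 0 1) ∧
    H11.U.cj q (h.1 1 0) * dt h = h.1 1 0 ∧ H11.U.cj q (h.1 1 1) * dt h = h.1 1 1

theorem two_ne_of_odd (hq : Odd q) : (2 : K) ≠ 0 := H10.two_ne_zero_of_odd_card (by
  rw [Nat.card_eq_fintype_card, IsSq.card_eq (q := q)]; exact hq.pow)

theorem exists_kappa (hq : Odd q) : ∃ (κ : GU 2 K q →* GL (Fin 2) K) (e : Kˣ),
    H11.U.cj q (e : K) = -e ∧ Function.Injective κ ∧ (∀ h, Sk q h ↔ ∃ g, κ g = h) ∧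
      (∀ g c, κ g = sc c ↔ g.1 = sc c) ∧ (∀ g, dt (κ g) = dt g.1) ∧
      ∀ g, g.1 = ta → κ g = dg e e⁻¹ * nn := by
  have h2 := two_ne_of_odd (K := K) hq
  obtain ⟨e, e0, ce⟩ := exists_trace_zero K q
  obtain ⟨ν, hν⟩ := exists_norm_eq (F := K) (q := q) (c := -1) (by simp)
  have ν0 : ν ≠ 0 := by rintro rfl; simp at hν
  let B : GL (Fin 2) K := m2 1 e ν (-(e * ν)) (by
    rw [show 1 * -(e * ν) - e * ν = -(2 * (e * ν)) by ring]; simp [h2, e0, ν0])
  have hB : B.1ᵀ * B.1.map (H11.U.cj q) = !![0, -(2 * e); 2 * e, 0] := by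
    ext i j
    fin_cases i <;> fin_cases j <;> simp [Matrix.mul_apply, Fin.sum_univ_two, B, ce]
    · linear_combination hν
    · linear_combination e * hν
    · linear_combination -e * hν
    · linear_combination -e * e * hν
  have key : ∀ h : GL (Fin 2) K, B * h * B⁻¹ ∈ GU 2 K q ↔ Sk q h := fun h => by
    have u1 : IsUnit B.1ᵀ := (isUnit_transpose _).2 B.isUnit
    have u2 : IsUnit (B.1.map (H11.U.cj q)) := B.isUnit.map (H11.U.cj q).mapMatrix
    rw [mem_GU, isIso_iff, ← u1.mul_right_inj, ← u2.mul_left_inj, Matrix.mul_one, ← mul_assoc,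
      ← transpose_mul, mul_assoc, ← Matrix.map_mul, ← Units.val_mul, inv_mul_cancel_right,
      Units.val_mul, transpose_mul, Matrix.map_mul, mul_assoc, ← mul_assoc B.1ᵀ, hB, ← Matrix.ext_iff]
    simp only [Fin.forall_fin_two, Matrix.mul_apply, Fin.sum_univ_two, transpose_apply, map_apply,
      of_apply, cons_val', cons_val_zero, cons_val_one, cons_val_fin_one, Sk, dt_coe]
    have hd := det_ne h
    have := mul_ne_zero h2 e0
    generalize h.1 0 0 = a at *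
    generalize h.1 0 1 = b at *
    generalize h.1 1 0 = c at *
    generalize h.1 1 1 = d at *
    constructor
    · rintro ⟨⟨h1, h2⟩, h3, h4⟩
      refine ⟨⟨mul_left_cancel₀ this ?_, mul_left_cancel₀ this ?_⟩, mul_left_cancel₀ this ?_,
        mul_left_cancel₀ this ?_⟩
      · linear_combination a * h3 - b * h1
      · linear_combination a * h4 - b * h2
      · linear_combination c * h3 - d * h1
      · linear_combination c * h4 - d * h2
    · rintro ⟨⟨h1, h2⟩, h3, h4⟩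
      refine ⟨⟨mul_right_cancel₀ hd ?_, mul_right_cancel₀ hd ?_⟩, mul_right_cancel₀ hd ?_,
        mul_right_cancel₀ hd ?_⟩
      · linear_combination 2 * e * (c * h1 - a * h3)
      · linear_combination 2 * e * (c * h2 - a * h4)
      · linear_combination 2 * e * (d * h1 - b * h3)
      · linear_combination 2 * e * (d * h2 - b * h4)
  refine ⟨(MulAut.conj B⁻¹).toMonoidHom.comp (GU 2 K q).subtype, Units.mk0 e e0, ce,
    (MulAut.conj B⁻¹).injective.comp Subtype.val_injective, fun h => ⟨fun k => ⟨⟨_, (key h).2 k⟩,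
      by simp [mul_assoc]⟩, ?_⟩, fun g c => ?_, fun g => by simp, fun g e => ?_⟩
  · rintro ⟨g, rfl⟩
    exact (key _).1 (by simp [mul_assoc])
  · change B⁻¹ * g * B⁻¹⁻¹ = _ ↔ _
    rw [mul_inv_eq_iff_eq_mul, sc_comm, mul_right_inj]
  · change B⁻¹ * g * B⁻¹⁻¹ = _
    rw [e, inv_inv, mul_assoc, inv_mul_eq_iff_eq_mul]
    refine ext2 ?_ ?_ ?_ ?_ <;> simp only [E, B] <;> field_simp <;> ring

theorem dg_mem_GU {a d : Kˣ} : dg a d ∈ GU 2 K q ↔ a ^ (q + 1) = 1 ∧ d ^ (q + 1) = 1 := by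
  simp [mem_GU2, E, mul_cj, Units.ext_iff]

theorem card_ker_pow : Nat.card (powMonoidHom (q + 1) : Kˣ →* Kˣ).ker = q + 1 := by
  refine (Nat.card_congr (Equiv.ofBijective (fun a => ⟨(a.1 : K), by
    rw [mul_cj, ← Units.val_pow_eq_pow_val, show a.1 ^ (q + 1) = 1 from a.2, Units.val_one]⟩)
    ⟨fun a b e => Subtype.ext (Units.ext (congrArg Subtype.val e)), fun x => ?_⟩)).trans
    (card_norm_eq (F := K) (q := q) one_ne_zero (map_one _))
  exact ⟨⟨Units.mk0 x.1 (left_ne_zero_of_mul_eq_one x.2), Units.ext (by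
    simpa [mul_cj] using x.2)⟩, rfl⟩

theorem sk_uu {b : K} : Sk q (uu true b) ↔ H11.U.cj q b = b := by simp [Sk, dt_uu, E]

theorem sk_dg {a d : Kˣ} : Sk q (dg a d) ↔ d = (a ^ q)⁻¹ := by
  simp only [Sk, E, mul_zero, sub_zero, map_zero, and_true, true_and, cj_apply, zero_mul]
  refine ⟨fun h => eq_inv_of_mul_eq_one_right (Units.ext (mul_left_cancel₀ a.ne_zero ?_)), ?_⟩
  · push_cast; linear_combination h.1
  · rintro rfl
    have := cj_cj (q := q) (a : K)
    simp only [cj_apply] at this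
    simp [this]
    field_simp

theorem sk_of_mul {b : K} {a d : Kˣ} (h : Sk q (uu true b * dg a d)) : Sk q (uu true b) := by
  simp only [Sk, E, mul_zero, sub_zero, map_zero, zero_mul, one_mul, add_zero, zero_add,
    map_mul] at h
  exact sk_uu.2 (mul_right_cancel₀ d.ne_zero (by
    linear_combination h.1.2 - H11.U.cj q b * h.2.2))

theorem invol_GU (hq : Odd q) {v : GL (Fin 2) K} (hv : v ∈ GU 2 K q) (h : v * v = 1)
    (hn : ∀ c, sc c ≠ v) : ∃ c ∈ GU 2 K q, c * ta * c⁻¹ = v := by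
  have h2 := two_ne_of_odd (K := K) hq
  have t : v.1 1 1 = -v.1 0 0 := by
    rcases invol_cases h2 h with rfl | rfl | ⟨x, rfl⟩
    · exact (hn 1 (map_one _)).elim
    · exact (hn _ sc_neg_one).elim
    · have := det_ne x
      simp only [E]; field_simp; ring
  have h00 := ent h 0 0
  obtain ⟨⟨a1, a2⟩, a3, a4⟩ := mem_GU2.1 hv
  simp only [E] at h00
  rw [t, map_neg] at a2 a4
  rw [t] at a3
  have b1 : H11.U.cj q (v.1 0 0) = v.1 0 0 := by
    linear_combination v.1 0 0 * a1 + v.1 1 0 * a3 - H11.U.cj q (v.1 0 0) * h00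
  have b2 : H11.U.cj q (v.1 1 0) = v.1 0 1 := by
    linear_combination v.1 0 1 * a1 - v.1 0 0 * a3 - H11.U.cj q (v.1 1 0) * h00
  have b3 := (cj_eq_iff.1 b2).symm
  by_cases ha : v.1 0 0 + 1 = 0
  · have e : v.1 0 0 = -1 := by linear_combination ha
    have e1 : v.1 0 1 = 0 := by
      by_contra k
      exact mul_ne_zero k (cj_ne_zero.2 k) (by rw [b3]; linear_combination h00 - (v.1 0 0 - 1) * ha)
    refine ⟨nn, by simp [mem_GU2, E], nn_ta.trans (ext2 ?_ ?_ ?_ ?_)⟩ <;> simp [E, t, e, e1, ← b3]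
  obtain ⟨l, hl⟩ := exists_norm_eq (F := K) (q := q) (c := (2 * (v.1 0 0 + 1))⁻¹)
    (by simp [b1, map_ofNat])
  have n := mul_ne_zero h2 ha
  rw [← mul_left_inj' n, inv_mul_cancel₀ n] at hl
  refine ⟨m2 (l * (v.1 0 0 + 1)) (-(l * v.1 0 1)) (l * v.1 1 0) (l * (v.1 0 0 + 1)) (by
    rw [show l * (v.1 0 0 + 1) * (l * (v.1 0 0 + 1)) - -(l * v.1 0 1) * (l * v.1 1 0) =
      l * l * (2 * (v.1 0 0 + 1)) by linear_combination l * l * h00]
    have : l ≠ 0 := by rintro rfl; simp at hl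
    exact mul_ne_zero (mul_ne_zero this this) n), mem_GU2.2 ?_,
    mul_inv_eq_iff_eq_mul.2 (ext2 ?_ ?_ ?_ ?_)⟩
  · simp only [E, map_mul, map_add, map_neg, map_one, b1, b2, b3]
    refine ⟨⟨?_, by ring⟩, by ring, ?_⟩ <;> linear_combination hl + l * H11.U.cj q l * h00
  all_goals simp only [E, t]
  · linear_combination -l * h00
  · ring
  · ring
  · linear_combination l * h00

set_option maxHeartbeats 2000000 in
theorem exists_UC (hq : Odd q) : ∃ (p : ℕ) (z u s : GU 2 K q) (W P H T : Subgroup (GU 2 K q)),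
    UC p q z u s W P H T ∧ (∀ g, g ∈ 𝐂[z]) ∧
      (∀ a b, a * b * (b * a)⁻¹ ∈ W → (a * b * (b * a)⁻¹) ^ 2 = 1) ∧ center _ ≤ W ∧
      Nat.card W = q + 1 ∧ ∃ j : SL(2, fixedField K q) →* GU 2 K q, j.range.Normal ∧
        ∀ D : Subgroup (GU 2 K q), D.Normal → z ∉ D → ∀ l, j l ∈ D → l = 1 := by
  have h2 := two_ne_of_odd (K := K) hq
  obtain ⟨κ, e, ce, inj, sk, ksc, kdt, kta⟩ := exists_kappa (K := K) hq
  obtain ⟨p, f, hp, hc, hqe, hf⟩ := exists_char_pow K q
  let z : GU 2 K q := ⟨-1, by simp [mem_GU2, E]⟩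
  let u : GU 2 K q := ⟨ta, by simp [mem_GU2, E]⟩
  let s : GU 2 K q := ⟨nn, by simp [mem_GU2, E]⟩
  let W : Subgroup (GU 2 K q) := sc.range.comap (GU 2 K q).subtype
  let P : Subgroup (GU 2 K q) := (Un K true).comap κ
  let H : Subgroup (GU 2 K q) := (Dg K).comap κ
  let T : Subgroup (GU 2 K q) := (Dg K).comap (GU 2 K q).subtype
  have hz : ∀ g, g ∈ 𝐂[z] := fun g => cm (Subtype.ext (by simp [z]))
  have kz : κ z = -1 := sc_neg_one (F := K) ▸ (ksc z _).2 sc_neg_one.symm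
  have ku : κ u = dg e e⁻¹ * nn := kta u rfl
  have mW : ∀ {g c}, κ g = sc c → g ∈ W := fun {g c} h => ⟨c, ((ksc g c).1 h).symm⟩
  have km : ∀ {a b}, a * b = b * a → κ a * κ b = κ b * κ a := fun h => by
    rw [← map_mul, h, map_mul]
  have km' : ∀ {a b}, κ a * κ b = κ b * κ a → a * b = b * a := fun h => inj (by
    rw [map_mul, h, map_mul])
  have dec : ∀ {g b a d}, κ g = uu true b * dg a d → ∃ y ∈ P, ∃ k, κ k = dg a d ∧ g = y * k :=
    fun {g b a d} h => by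
      obtain ⟨y, hy⟩ := (sk _).1 (sk_of_mul (h ▸ (sk _).2 ⟨g, rfl⟩))
      exact ⟨y, ⟨b, hy.symm⟩, y⁻¹ * g, by rw [map_mul, map_inv, h, hy, inv_mul_cancel_left],
        by group⟩
  have su : s * u * s = u * z := Subtype.ext (show nn * ta * nn = ta * -1 by
    rw [mul_neg_one, ← neg_one_mul, ← nn_ta, nn_inv])
  have z1 : z ≠ 1 := fun h => neg_one_ne h2 (congrArg Subtype.val h)
  have ss : s * s = 1 := Subtype.ext nn_mul_nn
  have cW : Nat.card W = q + 1 := by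
    refine (Nat.card_congr (Equiv.ofBijective (fun a : (powMonoidHom (q + 1) : Kˣ →* Kˣ).ker =>
      (⟨⟨sc a.1, dg_self a.1 ▸ dg_mem_GU.2 ⟨a.2, a.2⟩⟩, a.1, rfl⟩ : W))
      ⟨fun a b h => Subtype.ext (sc_inj (congrArg (·.1.1) h)), fun ⟨g, c, h⟩ =>
        ⟨⟨c, (dg_mem_GU.1 (show dg c c ∈ GU 2 K q by
          rw [dg_self, show sc c = g.1 from h]; exact g.2)).1⟩, Subtype.ext (Subtype.ext h)⟩⟩)).symm.trans
      card_ker_pow
  choose fH hH using fun a : Kˣ => (sk _).1 (sk_dg.2 (rfl : (a ^ q)⁻¹ = _))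
  let gH : Kˣ →* GU 2 K q := MonoidHom.mk' fH fun a b => inj (by
    rw [map_mul, hH, hH, hH, dg_mul, mul_pow, mul_inv])
  have eH : Kˣ ≃* H := (MonoidHom.ofInjective (f := gH) fun a b h =>
    (dg_inj ((hH a).symm.trans ((congrArg κ h).trans (hH b)))).1).trans
    (MulEquiv.subgroupCongr (le_antisymm (by rintro _ ⟨a, rfl⟩; exact ⟨_, _, (hH a).symm⟩) (by
      rintro g ⟨a, d, h⟩
      exact ⟨a, inj (by rw [← h, (sk_dg (q := q) (a := a) (d := d)).1 (h ▸ (sk _).2 ⟨g, rfl⟩)]; exact hH a)⟩)))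
  have cH : Nat.card H = (q + 1) * (q - 1) := by
    rw [← Nat.card_congr eH.toEquiv, Nat.card_units, H55.GL2.card_units_sq (q := q)]
  choose fP hP using fun b : {x : K // H11.U.cj q x = x} => (sk _).1 (sk_uu.2 b.2)
  refine ⟨p, z, u, s, W, P, H, T,
    { hp := hp
      hp2 := fun h => Nat.not_even_iff_odd.2 hq (hqe ▸ h ▸ even_two.pow_of_ne_zero hf.ne')
      hq := ⟨f, hf, hqe⟩
      z2 := H9.orderOf_eq_two_of_mul_self z1 (Subtype.ext (by simp [z]))
      cardW := cW.dvd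
      cardH := cW ▸ cH
      cardP := ?_
      cardC := by
        rw [(eq_top_iff (a := 𝐂[z])).2 fun g _ => hz g, card_top, H55.GL2.card_GU_two, cH]; ring
      zW := ⟨-1, sc_neg_one⟩
      WH := fun g ⟨c, h⟩ => ⟨c, c, (dg_self c).trans ((ksc g c).2 h.symm).symm⟩
      HC := fun g _ => hz g
      PC := fun g _ => hz g
      Wc := fun w ⟨c, h⟩ g _ => Subtype.ext (show w.1 * g.1 = g.1 * w.1 by
        rw [← show sc c = w.1 from h, sc_comm])
      cyc := isCyclic_of_surjective eH eH.surjective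
      Pc := fun x hx y hy => km' (Un_comm hx hy)
      nP := fun g hg => mem_normalizer_of_cj_le (cj_le_of fun x hx => by
        simpa [P] using Dg_conj_Un hg hx)
      ti := ?_, cP := ?_, cH := ?_
      uC := hz u
      uu := Subtype.ext ta_mul_ta
      uW := fun ⟨c, h⟩ => units_one_ne_neg h2
        ((dg_inj ((dg_self c).trans h)).1.symm.trans (dg_inj ((dg_self c).trans h)).2)
      uH := ?_, zP := ?_, cardT := ?_
      memT := fun g => ⟨fun h => ⟨hz g, Subtype.ext (Dg_comm h ta_mem)⟩,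
        fun h => mem_Dg_of_comm (units_one_ne_neg h2) (congrArg Subtype.val h.2)⟩
      ca := fun g _ m a _ b _ h1 h2 => Subtype.ext (Units.ext (comm_of_comm_nonscalar
        (fun k => m ((eq_sc_of_entries k).imp fun c h => h.symm))
        (congrArg (·.1.1) h1).symm (congrArg (·.1.1) h2).symm))
      inv := fun v _ h m => ?_
      sC := hz s
      ss := ss
      su := su
      sT := ?_, cycT := ?_, ab := fun A _ o1 o2 a ha b hb => ?_ }, hz, ?_, fun g hg => ?_, cW, ?_⟩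
  · refine (Nat.card_congr (Equiv.ofBijective (fun b => (⟨fP b, b.1, (hP b).symm⟩ : P))
      ⟨fun a b h => Subtype.ext (uu_inj true ((hP a).symm.trans
        ((congrArg (κ ·.1) h).trans (hP b)))), ?_⟩)).symm.trans (card_fixed K q)
    rintro ⟨g, b, h⟩
    exact ⟨⟨b, sk_uu.1 (h ▸ (sk _).2 ⟨g, rfl⟩)⟩, Subtype.ext (inj ((hP _).trans h))⟩
  · rintro x ⟨b, hb⟩ x1 g - ⟨c, hc⟩
    obtain ⟨_, ⟨b', rfl⟩, _, ⟨a, d, rfl⟩, h⟩ := exists_mul_of_mem_Bo (g := κ g)
      (mem_Bo_of_conj (e := true) (b := b) (c := c) (fun k => x1 (inj (by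
        rw [← hb, k, uu_zero, map_one]))) (by rw [hb, hc]; simp))
    obtain ⟨y, hy, k, hk, rfl⟩ := dec h
    exact mul_mem_sup hy ⟨a, d, hk.symm⟩
  · rintro x ⟨b, hb⟩ x1 g - h
    obtain ⟨c, a, h⟩ := comm_uu (e := true) (b := b) (g := κ g) (fun k => x1 (inj (by
        rw [← hb, k, uu_zero, map_one]))) (hb ▸ km h)
    obtain ⟨y, hy, k, hk, rfl⟩ := dec (dg_self c ▸ h)
    exact mul_mem_sup hy (mW (hk.trans (dg_self c)))
  · rintro x ⟨a, d, h⟩ m g - k
    exact mem_Dg_of_comm (a := a) (d := d) (fun k => m (mW (c := d) (by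
      rw [← h, k, dg_self]))) (h ▸ km k)
  · rintro x ⟨a, d, h⟩
    obtain rfl := sk_dg.1 (h ▸ (sk _).2 ⟨x, rfl⟩)
    refine inj ?_
    have : (a ^ q) ^ q = a := Units.ext (cj_cj (q := q) (a : K))
    rw [map_mul, map_mul, map_mul, map_pow, ku, ← h, dg_pow, map_one, inv_pow, this]
    generalize a ^ q = b
    refine ext2 ?_ ?_ ?_ ?_ <;> simp only [E] <;> field_simp <;> ring
  · obtain ⟨x, hx⟩ := (sk _).1 (sk_uu.2 (map_one (H11.U.cj q : K →+* K)))
    obtain ⟨y, hy⟩ := (sk _).1 (sk_uu.2 (show H11.U.cj q (-(e * e) : K) = -(e * e) by simp [ce]))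
    have a : x ∈ P ⊔ P ^ᶜ u := mem_sup_left ⟨1, hx.symm⟩
    have b : u * y * u⁻¹ ∈ P ⊔ P ^ᶜ u := mem_sup_right (cj_mem u ⟨_, hy.symm⟩)
    have c : κ (u * y * u⁻¹) = uu false (-1⁻¹) := by
      rw [map_mul, map_inv, mul_inv_eq_iff_eq_mul, map_mul, hy, ku]
      refine ext2 ?_ ?_ ?_ ?_ <;> simp only [E] <;> field_simp <;> ring
    convert mul_mem (mul_mem (mul_mem a b) a) (mul_mem (mul_mem a b) a) using 1
    refine inj ?_
    generalize u * y * u⁻¹ = y' at c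
    simp only [map_mul, hx, c, kz]
    exact (ww_sq true one_ne_zero).symm
  · rw [cW, ← card_ker_pow (K := K), ← Nat.card_prod]
    refine (Nat.card_congr (Equiv.ofBijective (fun a => (⟨⟨dg a.1.1 a.2.1, dg_mem_GU.2
      ⟨a.1.2, a.2.2⟩⟩, _, _, rfl⟩ : T)) ⟨fun a b h => Prod.ext
        (Subtype.ext (dg_inj (congrArg (·.1.1) h)).1) (Subtype.ext (dg_inj (congrArg (·.1.1) h)).2),
        ?_⟩)).symm
    rintro ⟨g, a, d, h⟩
    have m := dg_mem_GU.1 (show dg a d ∈ GU 2 K q by rw [show dg a d = g.1 from h]; exact g.2)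
    exact ⟨(⟨a, m.1⟩, ⟨d, m.2⟩), Subtype.ext (Subtype.ext h)⟩
  · obtain ⟨c, hc, h⟩ := invol_GU hq v.2 (congrArg Subtype.val h) fun c h => m ⟨c, h⟩
    exact ⟨(⟨c, hc⟩ : GU 2 K q)⁻¹, hz _, Subtype.ext (show c⁻¹ * v.1 * c⁻¹⁻¹ = ta by
      rw [← h]; group)⟩
  · rintro ⟨_, m⟩ ⟨a, d, rfl⟩
    exact ⟨d * a, show _ = nn * dg a d * nn * dg a d by
      rw [← dg_self, show nn * dg a d * nn = dg d a by rw [← nn_dg a d, nn_inv], dg_mul,
        mul_comm a]⟩
  · obtain ⟨⟨c, hc⟩, h⟩ := IsCyclic.exists_generator (α := (powMonoidHom (q + 1) : Kˣ →* Kˣ).ker)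
    refine ⟨⟨dg c 1, dg_mem_GU.2 ⟨hc, one_pow _⟩⟩, ⟨_, _, rfl⟩, ?_⟩
    rintro ⟨_, m⟩ ⟨a, d, rfl⟩
    obtain ⟨m1, m2⟩ := dg_mem_GU.1 m
    obtain ⟨k, hk⟩ := (mem_powers_iff_mem_zpowers.2
      (h (⟨d, m2⟩⁻¹ * ⟨a, m1⟩)) : ∃ k : ℕ, _ ^ k = _)
    refine ⟨⟨dg d d, dg_mem_GU.2 ⟨m2, m2⟩⟩, ⟨d, (dg_self d).symm⟩, k, Subtype.ext ?_⟩
    rw [zpow_natCast]
    change dg a d = dg d d * dg c 1 ^ k
    rw [dg_pow, dg_mul, show c ^ k = d⁻¹ * a from congrArg Subtype.val hk]; simp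
  · have := H46.commutator_eq_bot_of_dim_two o1 ((Units.coeHom _).comp
      ((GU 2 K q).subtype.comp A.subtype)) (Units.val_injective.comp
        (Subtype.val_injective.comp Subtype.val_injective)) (mt (CharP.cast_eq_zero_iff K p _).1 o2)
    have e : (⟨a, ha⟩ : A) * ⟨b, hb⟩ = ⟨b, hb⟩ * ⟨a, ha⟩ :=
      commutatorElement_eq_one_iff_mul_comm.1 (mem_bot.1
        (this ▸ commutator_mem_commutator (mem_top _) (mem_top _)))
    exact congrArg Subtype.val e
  · rintro a b ⟨c, h⟩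
    have : c ^ 2 = 1 := by rw [← dt_sc, h]; simp [mul_mul_mul_comm _ (dt b.1)]
    generalize a * b * (b * a)⁻¹ = g at h
    exact Subtype.ext (show g.1 ^ 2 = 1 by
      rw [← show sc c = g.1 from h, ← map_pow, this, map_one])
  · refine (eq_sc_of_comm (g := g.1) (u := ta) (v := nn)
      (congrArg Subtype.val (Subgroup.mem_center_iff.1 hg u).symm)
      (congrArg Subtype.val (Subgroup.mem_center_iff.1 hg s).symm) fun h => z1 ?_).imp
      fun c h => h.symm
    rwa [← show u * s = s * u from Subtype.ext h, mul_assoc, ss, mul_one, left_eq_mul] at su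
  let gl : GL (Fin 2) (fixedField K q) →* GL (Fin 2) K :=
    GeneralLinearGroup.map (fixedField K q).subtype
  have gi : Function.Injective gl := fun a b h =>
    ext2 (Subtype.ext (ent h 0 0)) (Subtype.ext (ent h 0 1)) (Subtype.ext (ent h 1 0))
      (Subtype.ext (ent h 1 1))
  have gd : ∀ a, ((dt (gl a) : Kˣ) : K) = (dt a : fixedField K q) := fun a => by
    rw [dt_coe, dt_coe]; rfl
  have lift : ∀ a, ∀ c : Kˣ, c * H11.U.cj q (c : K) * dt (gl a) = 1 → ∃ g, κ g = sc c * gl a :=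
    fun a c h => (sk _).1 (by
      have k : ∀ i j, H11.U.cj q ((gl a).1 i j) = (gl a).1 i j := fun i j => (a.1 i j).2
      rw [dt_coe] at h
      simp only [Sk, E, map_mul, k, zero_mul, add_zero, zero_add]
      exact ⟨⟨by linear_combination c * (gl a).1 0 0 * h, by linear_combination c * (gl a).1 0 1 * h⟩,
        by linear_combination c * (gl a).1 1 0 * h, by linear_combination c * (gl a).1 1 1 * h⟩)
  choose fj hj using fun l : SL(2, fixedField K q) =>
    lift (SpecialLinearGroup.toGL l) 1 (by simp [gd])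
  simp only [map_one, one_mul] at hj
  refine ⟨MonoidHom.mk' fj fun a b => inj (by rw [map_mul, hj, hj, hj, map_mul, map_mul]), ?_,
    fun D hD zD l hl => ?_⟩
  · convert (inferInstance : (dt.comp κ).ker.Normal) using 1
    refine le_antisymm (by rintro _ ⟨l, rfl⟩; exact Units.ext (by simp [hj, gd])) fun g hg => ?_
    obtain ⟨⟨a, b⟩, c, d⟩ := (sk _).2 ⟨g, rfl⟩
    have hg : dt (κ g) = 1 := hg
    simp only [hg, Units.val_one, mul_one] at a b c d
    refine ⟨⟨!![⟨_, a⟩, ⟨_, b⟩; ⟨_, c⟩, ⟨_, d⟩], Subtype.ext ?_⟩, inj ((hj _).trans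
      (ext2 rfl rfl rfl rfl))⟩
    simpa [det_fin_two, dt_coe] using congrArg Units.val hg
  have n : -1 ∉ (D.map κ).comap gl := fun ⟨g, m, h⟩ => zD (inj (h.trans (by
    rw [kz]; exact ext2 (by simp [gl]) (by simp [gl]) (by simp [gl]) (by simp [gl]))) ▸ m)
  obtain ⟨c, hc⟩ := eq_sc_of_normal (D := (D.map κ).comap gl) (by
      rw [card_fixedField (F := K) (q := q)]; exact hq)
    (fun x g ⟨y, m, h⟩ => by
      obtain ⟨c, hc⟩ := exists_norm_eq (F := K) (q := q) (c := (dt (gl x) : K)⁻¹)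
        (by rw [gd, map_inv₀, show H11.U.cj q ((dt x).1 : K) = (dt x).1 from (dt x).1.2])
      obtain ⟨t, ht⟩ := lift x (Units.mk0 c fun k => inv_ne_zero (dt (gl x)).ne_zero (by
        rw [← hc, k, zero_mul])) (by rw [Units.val_mk0, hc, inv_mul_cancel₀ (Units.ne_zero _)])
      exact ⟨_, hD.conj_mem y m t, by
        rw [map_mul, map_mul, map_inv, ht, h, map_mul, map_mul, map_inv, mul_assoc _ (gl x),
          sc_comm, sc_comm]; group⟩) n (g := SpecialLinearGroup.toGL l) ⟨_, hl, hj l⟩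
  have h2 : c * c = 1 := by
    rw [← sq, ← dt_sc, ← hc]; exact Units.ext l.2
  rcases mul_self_eq_one_iff.1 (congrArg Units.val h2) with e | e
  · exact SpecialLinearGroup.toGL_injective (by rw [hc, show c = 1 from Units.ext e, map_one, map_one])
  · rw [show c = -1 from Units.ext e, sc_neg_one] at hc
    exact (n ⟨_, hl, (hj l).trans (congrArg gl hc)⟩).elim

end H73.U
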