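import Cfsg.Agent.Lib.ABG.U.Irr3
import Cfsg.Agent.Lib.ABG.U.Arith
import Cfsg.Agent.Lib.ABG.U.Map
import Cfsg.Agent.Lib.ABG.U.Model
import Cfsg.Agent.Lib.ONan.Main

/-! Characterisation of `U₃(q)`, `q` odd, by the centralizer of an involution. -/

set_option autoImplicit false
set_option linter.style.haveILetI false
set_option linter.unusedSectionVars false
set_option linter.unusedVariables false

namespace H73.U

open Subgroup H45 H69 Cfsg H29 H23.GW MatrixGroups

universe v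

variable {G : Type v} [Group G] [Finite G]

theorem UC.index_ne_two [IsSimpleGroup G] {p q : ℕ} {z u s : G} {W P H T : Subgroup G}
    (h : UC p q z u s W P H T) (K : Subgroup G) : K.index ≠ 2 :=
  H51.ABG.index_ne_two (fun a => h.z1 (by
    have := h.su
    rwa [a.is_comm.comm s u, mul_assoc, h.ss, mul_one, left_eq_mul] at this)) K

/-- The number of involutions. -/
theorem UC.index_eq [IsSimpleGroup G] {p q : ℕ} {z u s : G} {W P H T : Subgroup G}
    (h : UC p q z u s W P H T) (S : Sylow 2 G)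
    (hS : q % 4 = 1 ∧ IsQuasiDihedral S ∨ q % 4 = 3 ∧ IsWreathed S) (zS : z ∈ S) (uS : u ∈ S)
    (SC : (S : Subgroup G) ≤ 𝐂[z]) (F : Type*) [Field F] [Fintype F] (hF : Fintype.card F = q)
    (hL : ∃ N : Subgroup (centralizer ({z} : Set G) ⧸ oddCore (centralizer ({z} : Set G))),
      N.Normal ∧ Nonempty (N ≃* SL(2, F))) :
    UB p q z u W P H ∧ (𝐂[z] : Subgroup G).index * (q + 1) = q ^ 2 * (q ^ 3 + 1) := by
  have hS' := hS.imp And.right And.right
  have hD : UD p q z u s W P H T :=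
    { h with one := fun v hv => isConj_iff.1 ((H41.qw_of hS').isConj h.index_ne_two h.z2 hv) }
  refine ⟨hD.toUB, ?_⟩
  have h4 : Four (zpowers z ⊔ zpowers u) z u := four_of h.z2 h.u2 h.pair.ne (mc h.uC).symm
  obtain ⟨Q, a, y, b, e1, e2, e3, e4, e5, e6, a0, a1⟩ := H51.ABG.order_data h.index_ne_two S hS' z
    h.z2 zS (fun x hx => mc (SC hx)) _ (h4.le_iff.2 ⟨zS, uS⟩) h4.isKleinFour F (hF ▸ h.q_odd) hL
  rw [hF] at e1
  obtain rfl : Q = -q := by
    rcases hS with ⟨c, d⟩ | ⟨c, d⟩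
    · have := (e2 d).1; omega
    · have := (e3 d).1; omega
  have eT : 𝐂(zpowers z ⊔ zpowers u) = T :=
    h4.cent.trans (le_antisymm (fun g hg => h.mem_T hg.1 hg.2) (le_inf h.TC h.TU))
  have q3 := h.three_le
  rw [eT, ← (𝐂[z] : Subgroup G).index_mul_card, h.cardC, h.cardT, h.cardH] at e4
  push_cast [show 1 ≤ q by omega] at e4
  have w0 : (Nat.card W : ℤ) ≠ 0 := by exact_mod_cast Nat.card_pos.ne'
  obtain ⟨k, hk⟩ : ∃ k, k = (𝐂[z] : Subgroup G).index := ⟨_, rfl⟩
  rw [← hk] at e4 ⊢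
  have h1 : k * (a + q) ^ 2 = q * ((q + 1) * (q - 1) ^ 2) * (a * (a - 1)) :=
    mul_left_cancel₀ (show (q : ℤ) ^ 2 * (q + 1) ^ 3 * (q - 1) * (Nat.card W : ℤ) ^ 3 ≠ 0 from
      mul_ne_zero (mul_ne_zero (mul_ne_zero (pow_ne_zero _ (by omega)) (pow_ne_zero _ (by omega)))
        (by omega)) (pow_ne_zero _ w0)) (by linear_combination -e4)
  have h2 : (a - q ^ 2) * (-b - q ^ 2) = q ^ 2 * (q ^ 2 - 1) := by
    linear_combination -e6 + q ^ 2 * e5
  suffices a = -q ^ 3 by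
    subst this
    exact_mod_cast reg_order (q := q) (k := k) (by omega) h1
  rcases hS with ⟨c, d⟩ | ⟨c, d⟩
  swap
  · rw [(e3 d).2.1]; ring
  have h8 : 8 ∣ a + q := by
    have := (e2 d).2.1
    obtain ⟨n, hn, e, -⟩ := d
    obtain ⟨m, rfl⟩ : ∃ m, n = m + 3 := ⟨n - 3, by omega⟩
    rw [e] at this
    obtain ⟨r, hr⟩ := this
    exact ⟨2 ^ m * r, mul_left_cancel₀ two_ne_zero (by push_cast at hr; linear_combination hr)⟩
  obtain ⟨f, hf, hq⟩ := h.hq
  have hq' : (q : ℤ) = p ^ f := by exact_mod_cast hq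
  by_cases pk : p ∣ k
  · exact reg_arith h.hp hq' (by omega) hf
      (by exact_mod_cast hk ▸ hD.toUB.sq_dvd (hk ▸ pk)) h1 h2 a0 a1 h8
  obtain ⟨n, n0, n8, n1, n2⟩ := irr_arith h.hp hq' (by omega) hf (by exact_mod_cast pk) h1 h2 a0 h8
  refine (hD.irr_false c (hk ▸ pk) (fun co => ?_) (fun e => ?_) ?_).elim
  · have := Nat.isCoprime_iff_coprime.2 (hk ▸ co : k.Coprime (q - 1))
    push_cast [show 1 ≤ q by omega] at this
    exact_mod_cast irr_cop (by omega) (by omega) n0 this n1 n2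
  · subst e
    exact_mod_cast hk ▸ irr_five (k := k) n0 n8 n1 n2
  · have := irr_bound (by omega) n0 n8 n2
    rw [← hk]
    zify [show 1 ≤ q by omega]
    exact this

theorem UB.psu [IsSimpleGroup G] {p q : ℕ} {z u : G} {W P H : Subgroup G} (h : UB p q z u W P H)
    (hk : (𝐂[z] : Subgroup G).index * (q + 1) = q ^ 2 * (q ^ 3 + 1)) {d : ℕ} (hd : Odd d)
    (hW : d * Nat.card W = q + 1) (E : Type*) [Field E] [Fintype E] (hE : Fintype.card E = q ^ 2) :
    Nonempty (G ≃* PSU 3 E q) := by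
  obtain ⟨Q, B, a1, a2, a3, a4, a5, a6, a7, a8⟩ := h.exists_bn hk
  obtain ⟨f, hf, rfl⟩ := h.hq
  refine H52.ON.psu_of_cosets h.hp h.hp2 hf a1 a2 a3 a4 (h.uu ▸ one_mem _)
    (fun x hx => a3 (by simpa [h.u_inv] using h.u_conj_mem hx)) a5 a6 (by rw [a7, pow_mul'])
    (by rw [a8, pow_mul']) h.cyc hd ?_ E hE
  have := h.three_le
  rw [h.cardH, ← mul_assoc, hW, pow_mul']
  zify [show 1 ≤ p ^ f by omega]
  ring

/-- A simple group with an involution centralizer `GU₂(q) / Z` is `U₃(q)`. -/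
theorem psu_of_hom [IsSimpleGroup G] {K : Type*} [Field K] [Fintype K] {q : ℕ} (hq : Odd q)
    (hK : Fintype.card K = q ^ 2) (π : GU 2 K q →* G) (k1 : π.ker ≤ center _)
    (k2 : Odd (Nat.card π.ker)) {t : G} (ht : orderOf t = 2) (hr : π.range = 𝐂[t]) :
    Nonempty (G ≃* PSU 3 K q) := by
  haveI : H11.U.IsSq K q := ⟨hK⟩
  obtain ⟨p, z, u, s, W, P, H, T, h, hz, hc, zW, cW, j, jn, hj⟩ := exists_UC (K := K) hq
  have ko : ∀ g, π g = 1 → Odd (orderOf g) := fun g e =>
    k2.of_dvd_nat (orderOf_dvd_natCard π.ker e)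
  obtain rfl : t = π z := by
    obtain ⟨g, rfl⟩ := hr.ge (cm rfl)
    have m : g ∈ W := zW (Subgroup.mem_center_iff.2 fun a => by
      have m : π (a * g * (g * a)⁻¹) = 1 := by
        rw [map_mul, map_inv, map_mul, map_mul, mc (hr.le ⟨a, rfl⟩), mul_inv_cancel]
      exact mul_inv_eq_one.1 (eq_one_of_odd (ko _ m)
        (sq (a * g * (g * a)⁻¹) ▸ hc a g (zW (k1 m)))))
    have e := (map_mul π g g).trans (H9.mul_self_of_orderOf_two ht)
    obtain ⟨n, hn⟩ := ko _ e
    have e1 : π (g ^ (2 * n + 1)) = π g := by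
      rw [map_pow, pow_succ, pow_mul, sq, ← map_mul, e, one_pow, one_mul]
    rcases h.invol_H (pow_mem (h.WH m) (2 * n + 1))
      (by rw [← (Commute.refl g).mul_pow, ← hn, pow_orderOf_eq_one]) with a | a
    · rw [← e1, a, map_one, orderOf_one] at ht; omega
    · rw [← e1, a]
  have h' := h.map hz hc π (k1.trans zW) k2 hr.ge
  have h4 : Four (zpowers z ⊔ zpowers u) z u := four_of h.z2 h.u2 h.pair.ne (mc h.uC).symm
  obtain ⟨R, hR⟩ := h4.isPGroup.exists_le_sylow
  have hS := (isSylowIn_top R).map π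
  rw [← MonoidHom.range_eq_map, hr] at hS
  obtain ⟨S, hS'⟩ := (hS.trans_of_not_dvd le_top (by
    rw [relIndex_top_right]; exact h'.odd_index.not_two_dvd_nat)).exists_sylow_top
  have e : (S : Subgroup G) ≃* (R : Subgroup (GU 2 K q)) := by
    refine (MulEquiv.subgroupCongr hS').trans (MulEquiv.ofBijective (π.subgroupMap R)
      ⟨(injective_iff_map_eq_one _).2 fun x hx => ?_, π.subgroupMap_surjective _⟩).symm
    have ho := ko x (congrArg Subtype.val hx)
    obtain ⟨k, hk⟩ := R.isPGroup' x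
    rw [orderOf_coe] at ho
    exact orderOf_eq_one_iff.1 (Nat.eq_one_of_dvd_coprimes ((Nat.coprime_two_left.2 ho).pow_left k)
      (orderOf_dvd_of_pow_eq_one hk) dvd_rfl)
  haveI := Fintype.ofFinite (H11.U.fixedField K q)
  let f := (QuotientGroup.mk' (oddCore (centralizer ({π z} : Set G)))).comp
    (π.codRestrict _ fun g => hr.le ⟨g, rfl⟩)
  have hf : Function.Surjective f := (QuotientGroup.mk'_surjective _).comp fun x =>
    let ⟨g, hg⟩ := hr.ge x.2; ⟨g, Subtype.ext hg⟩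
  obtain ⟨a, b⟩ := h'.index_eq S ((show q % 4 = 1 ∨ q % 4 = 3 by
      have := Nat.odd_iff.1 hq; omega).imp
    (fun a => ⟨a, H55.GL2.qd_congr e (H55.GL2.gu_qd a R)⟩)
    fun a => ⟨a, H55.GL2.wr_congr e (H55.GL2.gu_wr a R)⟩)
    (hS'.ge (mem_map_of_mem π (hR h4.mem_left))) (hS'.ge (mem_map_of_mem π (hR h4.mem_right)))
    (hS' ▸ hS.le) (H11.U.fixedField K q) (Nat.card_eq_fintype_card.symm.trans H11.U.card_fixedField)
    ⟨(f.comp j).range, by rw [MonoidHom.range_comp]; exact jn.map _ hf,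
      ⟨(MonoidHom.ofInjective ((injective_iff_map_eq_one _).2 (hj f.ker inferInstance fun a =>
        not_mem_of_odd H1.odd_card_oddCore ((orderOf_coe _).symm.trans ht)
          ((QuotientGroup.eq_one_iff _).1 a)))).symm⟩⟩
  exact a.psu b k2 (by rw [← cW, ← H1.card_map_mul_card_inf_ker π W, inf_eq_left.2 (k1.trans zW),
    mul_comm]) K hK

end H73.U
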