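import Cfsg.Agent.Lib.ABG.U.Defs
import Cfsg.Agent.Lib.ABG.H52_Tools

/-! The regular case: construction of the doubly transitive action of degree `q³ + 1`. -/

set_option autoImplicit false
set_option linter.style.haveILetI false
set_option linter.unusedSectionVars false

namespace H73.U

open Subgroup H45 H69 Cfsg H29

universe v

variable {G : Type v} [Group G] [Finite G]

namespace UB

variable {p q : ℕ} {z u : G} {W P H : Subgroup G} (h : UB p q z u W P H)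
include h

theorem exists_ne_one : ∃ x ∈ P, x ≠ 1 := by
  by_contra hn
  exact h.P_ne (eq_bot_iff.2 fun x hx => by_contra fun e => hn ⟨x, hx, e⟩)

theorem centP_le : 𝐂(P) ⊓ 𝐂[z] ≤ P ⊔ W := fun g hg => by
  obtain ⟨x, hx, x1⟩ := h.exists_ne_one
  exact h.cP x hx x1 g hg.2 (mem_centralizer_iff_commute.1 hg.1 x hx).symm

theorem normP_le : 𝐍(P) ⊓ 𝐂[z] ≤ P ⊔ H := fun g hg => by
  obtain ⟨x, hx, x1⟩ := h.exists_ne_one
  exact h.ti x hx x1 g hg.2 (conj_mem_of_mem_normalizer hg.1 hx)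

theorem PW_le : P ⊔ W ≤ P ⊔ H := sup_le_sup_left h.WH P

theorem P_le_cent : P ≤ 𝐂(P) := fun x hx => mem_centralizer_iff_commute.2 fun y hy => h.Pc y hy x hx

theorem W_le_cent : W ≤ 𝐂(P) := fun w hw =>
  mem_centralizer_iff_commute.2 fun y hy => (h.Wc w hw y (h.PC hy)).symm

theorem pow_q {y : G} (hy : y ∈ P) : y ^ q = 1 :=
  orderOf_dvd_iff_pow_eq_one.1 (h.cardP ▸ orderOf_dvd_natCard P hy)

theorem cyc_PW {S : Subgroup G} (hS : S ≤ P ⊔ W) (h2 : IsPGroup 2 S) : IsCyclic S := by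
  refine cyclicS h.cyc fun g hg => ?_
  obtain ⟨y, hy, w, hw, e⟩ := h.mem_PW.1 (hS hg)
  obtain ⟨k, hk⟩ := IsPGroup.iff_orderOf.1 h2 ⟨g, hg⟩
  refine mem_of_pow_mem (n := q) ?_ ?_
  · rw [e, Commute.mul_pow (h.Wc w hw y (h.PC hy)).symm, h.pow_q hy, one_mul]
    exact pow_mem (h.WH hw) q
  · rw [orderOf_mk] at hk
    exact hk ▸ (Nat.coprime_two_right.2 h.q_odd).pow_right k

/-- The odd part of `C(P)`. -/
theorem exists_YP : ∃ Y : Subgroup G, Odd (Nat.card Y) ∧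
    (∀ g, g ∈ Y ↔ g ∈ 𝐂(P) ∧ Odd (orderOf g)) ∧ 𝐍(P) ≤ 𝐍(Y) ∧ P ≤ Y ∧ MulEq Y H 𝐍(P) := by
  have zX := h.W_le_cent h.zW
  obtain ⟨Y, a, b, -⟩ := exists_odd_part h.z2 zX fun S hS => h.cyc_PW (hS.trans h.centP_le)
  have PY : P ≤ Y := fun y hy => (b y).2 ⟨h.P_le_cent hy, h.odd_order h.isP hy⟩
  refine ⟨Y, a, b, (normalizer_le_normalizer_centralizer P).trans (norm_odd_part b), PY,
    fun y hy => centralizer_le_normalizer _ ((b y).1 hy).1, h.nP, fun g hg => ?_⟩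
  obtain ⟨y, hy, oy, e⟩ := conj_invol h.z2 zX (fun w hw ow c => (h.invol_PH
    (h.PW_le (h.centP_le ⟨hw, mem_cent1_iff.2 c⟩)) (H9.mul_self_of_orderOf_two ow)).resolve_left
      (H9.ne_one_of_orderOf_two ow)) ((H9.orderOf_conj g z).trans h.z2)
    (conj_mem_of_mem_normalizer (normalizer_le_normalizer_centralizer P hg) zX)
  obtain ⟨x, hx, k, hk, e'⟩ := h.mem_PH.1 (h.normP_le (x := y⁻¹ * g)
    ⟨mul_mem (Subgroup.inv_mem _ (centralizer_le_normalizer _ hy)) hg, mem_cent1_iff.2 (by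
      calc y⁻¹ * g * z = y⁻¹ * (g * z * g⁻¹) * g := by group
        _ = z * (y⁻¹ * g) := by rw [← e]; group)⟩)
  exact ⟨y * x, mul_mem ((b y).2 ⟨hy, oy⟩) (PY hx), k, hk, by rw [mul_assoc, ← e']; group⟩

theorem exists_elt : ∃ e ∈ H, orderOf e = 2 * (q - 1) := by
  obtain ⟨⟨c, hc⟩, hg⟩ := h.cyc.exists_ofOrder_eq_natCard
  obtain ⟨k, hk⟩ := h.even_W
  rw [orderOf_mk, h.cardH, hk] at hg
  have k0 : k ≠ 0 := by
    rintro rfl
    exact Nat.card_pos.ne' hk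
  refine ⟨c ^ k, pow_mem hc k, ?_⟩
  rw [orderOf_pow' _ k0, hg, mul_right_comm, Nat.gcd_mul_left_left, Nat.mul_div_cancel _ k0.bot_lt]

theorem inf_eq_P {R : Subgroup G} (hR : IsPGroup p R) (hP : P ≤ R) : R ⊓ 𝐂[z] = P :=
  h.sylP.max _ (le_inf hP h.PC) inf_le_right (hR.to_le inf_le_left)

/-- If `P` is not a Sylow subgroup, it lies in a `p`-group of order at least `q³`. -/
theorem exists_R (hk : p ∣ (𝐂[z] : Subgroup G).index) : ∃ R : Subgroup G, IsPGroup p R ∧ P ≤ R ∧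
    R ≤ 𝐂(P) ∧ z ∈ 𝐍(R) ∧ q ^ 3 ∣ Nat.card R := by
  haveI := h.fact
  obtain ⟨Y, oY, mY, nY, PY, eY⟩ := h.exists_YP
  have YC : Y ≤ 𝐂(P) := fun y hy => ((mY y).1 hy).1
  have hA : zpowers z ≤ 𝐍(Y) := zpowers_le.2 (nY (h.nP h.zH))
  obtain ⟨R, hR, zR⟩ := exists_inv_syl h.hp (H9.isPGroup_zpowers_of_mul_self h.zz) oY hA
  have PR : P ≤ R := Syl.le_of_normalIn hR ⟨PY, eY.le_left⟩ h.isP
  have ne : R ≠ P := by
    rintro rfl
    have s1 := eY.syl_of_left h.hp hR ((isPi_compl_singleton_iff h.hp).2 h.not_dvd_H)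
    have s2 : Syl p R ⊤ := isSylowIn_of_normalizer le_top (by rwa [top_inf_eq])
    exact s2.not_dvd_relIndex_of_le h.PC le_top (by rwa [relIndex_top_right])
  obtain ⟨e, he, oe⟩ := h.exists_elt
  have eR : e ∈ 𝐍(R) := by
    obtain ⟨c, hc, hce⟩ := coprime_Hall_trans hA
      (by rw [Nat.card_zpowers, h.z2]; exact Nat.coprime_two_right.2 oY) (sol_of_odd oY)
      (hR.hall h.hp) zR ((hR.hall h.hp).cj_of_mem_normalizer (nY (h.nP he))) (by
        rw [← cj_normalizer, le_cj_iff, cj_zpowers, inv_inv, mul_assoc,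
          ← mem_cent1_iff.1 (h.HC he), inv_mul_cancel_left]
        exact zR)
    rw [centralizer_zpowers] at hc
    obtain ⟨y, hy, w, hw, rfl⟩ := h.mem_PW.1 (h.centP_le ⟨YC hc.1, hc.2⟩)
    have cw : Commute y w := (h.Wc w hw y (h.PC hy)).symm
    have ow : Odd (orderOf w) := by
      have : w = y⁻¹ * (y * w) := by group
      rw [this]
      exact ((mY _).1 (mul_mem (inv_mem (PY hy)) hc.1)).2
    rw [cw.eq, ← cj_cj, cj_eq_of_mem (PR hy), eq_comm, cj_eq_iff, cj_cj, eq_comm,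
      cj_eq_self_iff] at hce
    refine mem_of_pow_mem (n := orderOf w) ?_ (oe ▸ cop_of_odd h.q_odd.pos ow
      ((orderOf_dvd_natCard W hw).trans h.cardW))
    have := inv_mem (pow_mem hce (orderOf w))
    rwa [Commute.mul_pow (Commute.inv_left (h.Wc w hw e (h.HC he)).symm), pow_orderOf_eq_one,
      mul_one, inv_pow, inv_inv] at this
  have hd := card_dvd_of_semiregular (A := zpowers e) (B := (R : Set G) \ P) (fun a ha b hb =>
    ⟨conj_mem_of_mem_normalizer (zpowers_le.2 eR ha) hb.1, fun m => hb.2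
      ((mem_normalizer_iff.1 (h.nP (zpowers_le.2 he ha)) b).2 m)⟩) fun a ha b hb c => by
    by_contra a1
    obtain ⟨k, hk⟩ := exists_prime_pow a1
    have aH : a ^ k ∈ H := pow_mem (zpowers_le.2 he ha) k
    have c' : b ∈ 𝐂[a ^ k] := mem_cent1_iff.2 (Commute.pow_right (Commute.symm c) k)
    have k1 : a ^ k ≠ 1 := fun e => hk.ne_one (orderOf_eq_one_iff.2 e)
    by_cases h2 : orderOf (a ^ k) = 2
    · rw [(h.invol_H aH (H9.mul_self_of_orderOf_two h2)).resolve_left k1] at c'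
      exact hb.2 ((h.inf_eq_P hR.isP PR).le ⟨hb.1, c'⟩)
    · have d : orderOf (a ^ k) ∣ 2 * (q - 1) := oe ▸ orderOf_dvd_of_mem_zpowers (pow_mem ha k)
      have := eq_bot_of_not_dvd (hR.isP.to_le (zpowers_le.2 hb.1)) (zpowers_le.2 c')
        (h.not_dvd_cent aH k1 (hk.odd_of_ne_two h2) ((Nat.Coprime.dvd_mul_left
          (Nat.coprime_two_right.2 (hk.odd_of_ne_two h2))).1 d))
      exact hb.2 (zpowers_eq_bot.1 this ▸ P.one_mem)
  obtain ⟨f, hf, hq⟩ := h.hq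
  obtain ⟨k, hk⟩ := hR.isP.exists_card_eq
  have lt : p ^ f < p ^ k := by
    rw [← hk, ← hq, ← h.cardP]
    exact lt_of_le_of_ne (card_le_of_le PR) fun e => ne (eq_of_le_of_card_ge PR e.ge).symm
  obtain ⟨j, rfl⟩ := Nat.exists_eq_add_of_lt ((Nat.pow_lt_pow_iff_right h.hp.one_lt).1 lt)
  rw [Nat.card_zpowers, oe, Set.ncard_sdiff PR, ← Nat.card_coe_set_eq, ← Nat.card_coe_set_eq,
    SetLike.coe_sort_coe, SetLike.coe_sort_coe, hk, h.cardP, add_assoc, pow_add, ← hq,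
    ← Nat.mul_sub_one] at hd
  have cop : (2 * (q - 1)).Coprime q := Nat.Coprime.mul_left (Nat.coprime_two_left.2 h.q_odd)
    ((Nat.coprime_self_sub_left h.q_odd.pos).2 (Nat.coprime_one_left q))
  have := two_mul_le_of_dvd h.hp.two_le hf j.succ_pos (hq ▸ cop.dvd_of_dvd_mul_left hd)
  exact ⟨R, hR.isP, PR, hR.le.trans YC, zR (mem_zpowers z), by
    rw [hk, hq, ← pow_mul]; exact pow_dvd_pow _ (by omega)⟩

theorem sq_dvd (hk : p ∣ (𝐂[z] : Subgroup G).index) : q ^ 2 ∣ (𝐂[z] : Subgroup G).index := by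
  obtain ⟨R, -, -, -, -, d⟩ := h.exists_R hk
  replace d := d.trans (card_subgroup_dvd_card R)
  rw [← (𝐂[z] : Subgroup G).index_mul_card, h.cardC, mul_assoc, mul_left_comm, pow_succ'] at d
  refine Nat.Coprime.dvd_of_dvd_mul_right ?_ (Nat.dvd_of_mul_dvd_mul_left h.q_odd.pos d)
  obtain ⟨f, -, hq⟩ := h.hq
  rw [hq, ← pow_mul]
  exact Nat.Coprime.pow_left _ ((Nat.Prime.coprime_iff_not_dvd h.hp).2 fun d =>
    ((Nat.Prime.dvd_mul h.hp).1 d).elim (hq ▸ h.not_dvd_succ) h.not_dvd_H)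

theorem u_notMem_norm : u ∉ 𝐍(P) := fun m => h.u_notMem (h.normP_le ⟨m, h.uC⟩)

theorem mem_H {g : G} (h1 : g ∈ 𝐍(P)) (h2 : u⁻¹ * g * u ∈ 𝐍(P)) : g ∈ H := by
  have h3 : g ∈ 𝐍(P ^ᶜ u) := by rwa [← cj_normalizer, mem_cj]
  have n : g ∈ 𝐍((P ⊔ P ^ᶜ u : Subgroup G)) :=
    zpowers_le.1 (le_normalizer_sup (zpowers_le.2 h1) (zpowers_le.2 h3))
  have gz : g * z * g⁻¹ = z := by
    refine (h.invol_PH (h.PW_le (h.centP_le ⟨?_, sup_le h.PC (cj_le_of_mem h.PC h.uC)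
      (conj_mem_of_mem_normalizer n h.zP)⟩)) (h.pair.conj g).sq₁).resolve_left (h.pair.conj g).ne₁
    exact conj_mem_of_mem_normalizer (normalizer_le_normalizer_centralizer P h1) (h.W_le_cent h.zW)
  obtain ⟨y, hy, k, hk, rfl⟩ := h.mem_PH.1 (h.normP_le
    ⟨h1, mem_cent1_iff.2 (mul_inv_eq_iff_eq_mul.1 gz)⟩)
  have h4 : u * y * u⁻¹ ∈ 𝐍(P) := by
    have := mul_mem h2 (inv_mem (h.nP (h.u_conj_mem hk)))
    rw [h.u_inv] at this ⊢
    convert this using 1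
    rw [mul_inv_rev, mul_inv_rev, h.u_inv]
    calc u * y * u = u * y * (k * (u * u) * k⁻¹) * u := by rw [h.uu]; group
      _ = _ := by group
  have h5 : u * y * u⁻¹ ∈ P := zpowers_le.1 (h.sylP.le_of_le_normalizer'
    ((isPGroup_cj h.isP u).to_le (zpowers_le.2 (cj_mem u hy)))
    (zpowers_le.2 (mul_mem (mul_mem h.uC (h.PC hy)) (inv_mem h.uC))) (zpowers_le.2 h4))
  by_cases y1 : y = 1
  · rwa [y1, one_mul]
  · exact (h.u_notMem (h.ti y hy y1 u h.uC h5)).elim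

/-- The split `(B, N)`-pair of rank one. -/
theorem exists_bn (hk : (𝐂[z] : Subgroup G).index * (q + 1) = q ^ 2 * (q ^ 3 + 1)) :
    ∃ Q B : Subgroup G, Q ≤ B ∧ (∀ x ∈ B, ∀ y ∈ Q, x * y * x⁻¹ ∈ Q) ∧ H ≤ B ∧ u ∉ B ∧
      (∀ x ∈ B, ∃ y ∈ Q, ∃ k ∈ H, x = y * k) ∧ (∀ g, g ∉ B → ∃ x ∈ B, ∃ y ∈ B, g = x * u * y) ∧
      B.index = q ^ 3 + 1 ∧ Nat.card Q = q ^ 3 := by
  obtain ⟨R, hR, PR, RC, zR, d⟩ := h.exists_R (((Nat.Prime.dvd_mul h.hp).1
    (hk ▸ (h.p_dvd.trans (dvd_pow_self q two_ne_zero)).mul_right _)).resolve_right h.not_dvd_succ)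
  have RN : R ≤ 𝐍(P) := RC.trans (centralizer_le_normalizer _)
  have le := Nat.le_of_dvd Nat.card_pos d
  let f : Option R → G ⧸ 𝐍(P) := fun o => o.elim (1 : G) fun x => ((x * u : G) : G ⧸ 𝐍(P))
  have ne : ∀ x : R, f none ≠ f (some x) := fun x e => h.u_notMem_norm (by
    have := mul_mem (inv_mem (RN x.2)) (QuotientGroup.eq.1 e)
    simpa using this)
  have inj : Function.Injective f := by
    rintro (_ | x) (_ | y) e
    · rfl
    · exact (ne y e).elim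
    · exact (ne x e.symm).elim
    · have m : (x : G)⁻¹ * y ∈ R := mul_mem (inv_mem x.2) y.2
      have := h.eq_one hR m (h.mem_H (RN m) (by
        simpa [mul_assoc] using QuotientGroup.eq.1 e))
      rw [Subtype.ext (inv_mul_eq_one.1 this)]
  have l1 : Nat.card R + 1 ≤ (𝐍(P) : Subgroup G).index := by
    simpa [index_eq_card] using Nat.card_le_card_of_injective f inj
  have l2 : Nat.card R * Nat.card H ≤ Nat.card (𝐍(P) : Subgroup G) := by
    rw [← Nat.card_prod]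
    refine Nat.card_le_card_of_injective (fun a : R × H => (⟨a.1 * a.2, mul_mem (RN a.1.2)
      (h.nP a.2.2)⟩ : 𝐍(P))) fun a b e => ?_
    have e : (a.1 : G) * a.2 = b.1 * b.2 := congrArg Subtype.val e
    have e' : (b.1 : G)⁻¹ * a.1 = b.2 * (a.2 : G)⁻¹ := by
      rw [inv_mul_eq_iff_eq_mul, ← mul_assoc, ← e, mul_inv_cancel_right]
    have := h.eq_one hR (mul_mem (inv_mem b.1.2) a.1.2) (e' ▸ mul_mem b.2.2 (inv_mem a.2.2))
    exact Prod.ext (Subtype.ext (inv_mul_eq_one.1 this).symm)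
      (Subtype.ext (mul_inv_eq_one.1 (e' ▸ this)).symm)
  have e : (𝐍(P) : Subgroup G).index * Nat.card (𝐍(P) : Subgroup G) =
      (q ^ 3 + 1) * (q ^ 3 * Nat.card H) := by
    rw [index_mul_card, ← (𝐂[z] : Subgroup G).index_mul_card, h.cardC]
    calc _ = (𝐂[z] : Subgroup G).index * (q + 1) * (q * Nat.card H) := by ring
      _ = _ := by rw [hk]; ring
  have l3 := (Nat.mul_le_mul_right (Nat.card H) le).trans l2
  have hp : 0 < q ^ 3 * Nat.card H := Nat.mul_pos (pow_pos h.q_odd.pos 3) Nat.card_pos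
  have e1 : (𝐍(P) : Subgroup G).index = q ^ 3 + 1 := le_antisymm (Nat.le_of_mul_le_mul_right
    ((Nat.mul_le_mul_left _ l3).trans e.le) hp) (by omega)
  have e2 : Nat.card R = q ^ 3 := by omega
  rw [e1] at e
  have m : MulEq R H 𝐍(P) := mulEq_of_inf_eq_bot_of_card RN h.nP (h.inf_H hR)
    (by rw [Nat.eq_of_mul_eq_mul_left (Nat.succ_pos _) e, e2])
  have nR : ∀ k ∈ H, ∀ y ∈ R, k * y * k⁻¹ ∈ R := fun k hk y hy => by
    obtain ⟨i, hi, i1, i2⟩ := H52.exists_inverted_mul (h.odd_of_isP hR) h.zz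
      (fun a ha => conj_mem_of_mem_normalizer zR ha) hy
    have c : i⁻¹ * y ∈ P := (h.inf_eq_P hR PR).le ⟨mul_mem (Subgroup.inv_mem _ hi) hy,
      mem_cent1_iff.2 (mul_inv_eq_iff_eq_mul.1 i2).symm⟩
    obtain ⟨x, hx, l, hl, e⟩ := m.exists_mul
      (mul_mem (mul_mem (h.nP hk) (RN hi)) (inv_mem (h.nP hk)))
    have j : k * i * k⁻¹ ∈ R := by
      refine mem_of_pow_mem (n := 2) ?_ (Nat.coprime_two_left.2
        (by rw [H9.orderOf_conj]; exact h.odd_order hR hi))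
      have a : (k * i * k⁻¹) ^ 2 = k * i * k⁻¹ * (z * (k * i * k⁻¹) * z⁻¹)⁻¹ := by
        rw [show z * (k * i * k⁻¹) * z⁻¹ = z * k * i * (z * k)⁻¹ by group,
          ← mem_cent1_iff.1 (h.HC hk), show k * z * i * (k * z)⁻¹ = k * (z * i * z⁻¹) * k⁻¹ by group,
          i1, sq]
        group
      rw [a, e, show x * l * (z * (x * l) * z⁻¹)⁻¹ = x * (l * z) * l⁻¹ * x⁻¹ * z⁻¹ by group,
        mem_cent1_iff.1 (h.HC hl), show x * (z * l) * l⁻¹ * x⁻¹ * z⁻¹ = x * (z * x⁻¹ * z⁻¹) by group]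
      exact mul_mem hx (conj_mem_of_mem_normalizer zR (inv_mem hx))
    rw [show k * y * k⁻¹ = k * i * k⁻¹ * (k * (i⁻¹ * y) * k⁻¹) by group]
    exact mul_mem j (PR (conj_mem_of_mem_normalizer (h.nP hk) c))
  refine ⟨R, 𝐍(P), RN, fun g hg y hy => ?_, h.nP, h.u_notMem_norm, fun x hx => m.exists_mul hx,
    fun g hg => ?_, e1, e2⟩
  · obtain ⟨x, hx, k, hk, rfl⟩ := m.exists_mul hg
    rw [show x * k * y * (x * k)⁻¹ = x * (k * y * k⁻¹) * x⁻¹ by group]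
    exact mul_mem (mul_mem hx (nR k hk y hy)) (inv_mem hx)
  · obtain ⟨_ | x, e⟩ := (inj.bijective_of_nat_card_le
      (by rw [← index_eq_card, e1, ← e2]; simp)).2 (g : G ⧸ 𝐍(P))
    · exact (hg (by simpa using QuotientGroup.eq.1 e)).elim
    · exact ⟨x, RN x.2, _, QuotientGroup.eq.1 e, by group⟩

end UB

end H73.U
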